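import Mathlib.Algebra.BigOperators.Group.Finset.Basic
import Mathlib.Algebra.Order.BigOperators.Group.Finset
import Mathlib.Data.Fintype.BigOperators
import Mathlib.Tactic.Ring
import Mathlib.Algebra.BigOperators.Ring.Finset
import Mathlib.Tactic.Linarith

/-!
# A counting argument
-/

set_option autoImplicit false

open Finset

namespace K774.Comb

theorem false_of {G : Type*} [Group G] [Fintype G] [DecidableEq G] (i : G → ℕ) (N t : ℕ) (v : G → ℕ) (σ₀ σm : G)
    (hσm : σm ≠ 1) (hmax : ∀ τ, τ ≠ 1 → i τ ≤ i σm) (hv0 : v σ₀ = t)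
    (hv : ∀ σ, σ ≠ σ₀ → v σ = min t (N * i (σ₀⁻¹ * σ))) (U : ℕ) (hU : U = i σm + ∑ τ ∈ univ.erase (1 : G), i τ)
    (hsum : ∑ σ, v σ + 1 = U * N) : False := by
  have h1 : ∑ σ, v σ = ∑ τ, v (σ₀ * τ) := (Equiv.sum_comp (Equiv.mulLeft σ₀) v).symm
  rw [h1, ← Finset.add_sum_erase univ _ (mem_univ (1 : G)), mul_one, hv0] at hsum
  have h2 : ∑ τ ∈ univ.erase (1 : G), v (σ₀ * τ) = ∑ τ ∈ univ.erase (1 : G), min t (N * i τ) := by
    refine Finset.sum_congr rfl fun τ hτ => ?_
    rw [Finset.mem_erase] at hτ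
    rw [hv _ (by simpa using hτ.1)]
    simp
  rw [h2] at hsum
  rcases le_or_gt (N * i σm) t with h | h
  · have h3 : ∑ τ ∈ univ.erase (1 : G), min t (N * i τ) = N * ∑ τ ∈ univ.erase (1 : G), i τ := by
      rw [Finset.mul_sum]
      refine Finset.sum_congr rfl fun τ hτ => ?_
      rw [Finset.mem_erase] at hτ
      exact min_eq_right ((Nat.mul_le_mul_left N (hmax τ hτ.1)).trans h)
    rw [h3] at hsum
    have h4 : U * N = N * i σm + N * ∑ τ ∈ univ.erase (1 : G), i τ := by rw [hU]; ring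
    omega
  · have hm : σm ∈ univ.erase (1 : G) := by simp [hσm]
    rw [← Finset.add_sum_erase _ _ hm] at hsum hU
    have h5 : ∑ τ ∈ (univ.erase (1 : G)).erase σm, min t (N * i τ) ≤ N * ∑ τ ∈ (univ.erase (1 : G)).erase σm, i τ := by
      rw [Finset.mul_sum]
      exact Finset.sum_le_sum fun τ _ => min_le_right _ _
    have h6 : U * N = N * i σm + (N * i σm + N * ∑ τ ∈ (univ.erase (1 : G)).erase σm, i τ) := by rw [hU]; ring
    have h7 : min t (N * i σm) = t := min_eq_left h.le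
    rw [h7] at hsum
    omega

end K774.Comb
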