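import Groth.Agent.Font.K774.Eis
import Groth.Agent.Font.K774.Comb
import Groth.Agent.Etbc.H205.HensExt
import Mathlib.FieldTheory.IntermediateField.Adjoin.Basic
import Mathlib.FieldTheory.IsAlgClosed.Basic

/-!
# Fontaine's perturbation argument
-/

set_option autoImplicit false
universe u v

open IsDiscreteValuationRing Polynomial IsLocalRing

namespace K774.Core

section field

/-- A field generated by two roots. -/
theorem exists_field {K₀ Ω : Type u} [Field K₀] [Field Ω] [Algebra K₀ Ω] (x y : Ω) (N e : ℕ) (f : K₀[X]) (hf : f.Monic)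
    (hfN : f.natDegree = N) (hfx : aeval x f = 0)
    (g : (IntermediateField.adjoin K₀ {x})[X]) (hg : g.Monic) (hge : g.natDegree = e) (hgy : aeval y g = 0) :
    ∃ E : IntermediateField K₀ Ω, FiniteDimensional K₀ E ∧ x ∈ E ∧ y ∈ E ∧ Module.finrank K₀ E ≤ N * e := by
  let K' := IntermediateField.adjoin K₀ {x}
  have hx : IsIntegral K₀ x := ⟨f, hf, hfx⟩
  have hy : IsIntegral K' y := ⟨g, hg, hgy⟩
  let E' := IntermediateField.adjoin K' {y}
  have h1 : FiniteDimensional K₀ K' := IntermediateField.adjoin.finiteDimensional hx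
  have h2 : FiniteDimensional K' E' := IntermediateField.adjoin.finiteDimensional hy
  have h3 : FiniteDimensional K₀ E' := FiniteDimensional.trans K₀ K' E'
  have h4 : Module.finrank K₀ K' ≤ N := by
    rw [IntermediateField.adjoin.finrank hx, ← hfN]
    exact Polynomial.natDegree_le_of_dvd (minpoly.dvd K₀ x hfx) hf.ne_zero
  have h5 : Module.finrank K' E' ≤ e := by
    rw [IntermediateField.adjoin.finrank hy, ← hge]
    exact Polynomial.natDegree_le_of_dvd (minpoly.dvd K' y hgy) hg.ne_zero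
  refine ⟨E'.restrictScalars K₀, h3, ?_, ?_, ?_⟩
  · exact E'.algebraMap_mem (⟨x, IntermediateField.mem_adjoin_simple_self K₀ x⟩ : K')
  · exact IntermediateField.mem_adjoin_simple_self K' y
  · have h6 : Module.finrank K₀ (E'.restrictScalars K₀) = Module.finrank K₀ K' * Module.finrank K' E' :=
      (Module.finrank_mul_finrank K₀ K' E').symm
    rw [h6]
    exact Nat.mul_le_mul h4 h5

end field

/-- Property (P) of Fontaine with bound `B` (and `m > 1`). -/
def PropP (R K₀ Ω BL : Type u) [CommRing R] [IsDomain R] [IsDiscreteValuationRing R] [Field K₀] [Algebra R K₀] [Field Ω]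
    [Algebra K₀ Ω] [Algebra R Ω] [IsScalarTower R K₀ Ω] [CommRing BL] [Algebra R BL] (ι : BL →ₐ[R] Ω) (ϖ : R) (B : ℚ) : Prop :=
  ∀ (E : IntermediateField K₀ Ω) [FiniteDimensional K₀ E] [IsDiscreteValuationRing (integralClosure R E)] (k e' : ℕ),
    addVal (integralClosure R E) (algebraMap R _ ϖ) = e' → B * e' < k → e' < k →
    Nonempty (BL →ₐ[R] (integralClosure R E ⧸ (maximalIdeal (integralClosure R E)) ^ k)) → ∀ b, ι b ∈ E

theorem final {R OE BL : Type u} [CommRing R] [IsDomain R] [IsDiscreteValuationRing R] [CommRing OE] [IsDomain OE]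
    [IsDiscreteValuationRing OE] [Algebra R OE] [CommRing BL] [IsDomain BL] [IsDiscreteValuationRing BL] [Algebra R BL]
    (ιE : BL →ₐ[R] OE) (π : BL) (hπ : Irreducible π) (N : ℕ) (hN : 1 ≤ N) (hιπ : addVal OE (ιE π) = N)
    {G : Type*} [Group G] [Fintype G] [DecidableEq G] (act : G →* (BL ≃ₐ[R] BL))
    (P : R[X]) (hP : P.map (algebraMap R BL) = ∏ σ : G, (X - C (act σ π)))
    (β : OE) (i : G → ℕ) (hi : ∀ σ, σ ≠ 1 → addVal BL (act σ π - π) = i σ) (σm : G) (hσm : σm ≠ 1)
    (hmax : ∀ τ, τ ≠ 1 → i τ ≤ i σm) (U : ℕ) (hU : U = i σm + ∑ τ ∈ Finset.univ.erase (1 : G), i τ) (hU1 : 1 ≤ U)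
    (hval : addVal OE (aeval β P) = (U * N - 1 : ℕ)) : False := by
  have hprod : aeval β P = ∏ σ : G, (β - ιE (act σ π)) := by
    have h1 : aeval β P = eval β ((P.map (algebraMap R BL)).map (ιE : BL →+* OE)) := by
      rw [Polynomial.map_map, Polynomial.eval_map, Polynomial.aeval_def]
      congr 1
      ext r
      exact (ιE.commutes r).symm
    rw [h1, hP, Polynomial.map_prod, Polynomial.eval_prod]
    refine Finset.prod_congr rfl fun σ _ => ?_
    simp
  have hne : ∀ σ, β - ιE (act σ π) ≠ 0 := by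
    intro σ h
    have : aeval β P = 0 := by
      rw [hprod]
      exact Finset.prod_eq_zero (Finset.mem_univ σ) h
    rw [this, addVal_zero] at hval
    exact ENat.top_ne_natCast _ hval
  choose v hv using fun σ => Val.exists_addVal_eq (hne σ)
  have hsum : ∑ σ, v σ = U * N - 1 := by
    rw [hprod, Val.addVal_prod] at hval
    simp only [hv] at hval
    exact_mod_cast hval
  obtain ⟨σ₀, -, hσ₀⟩ := Finset.exists_max_image (Finset.univ : Finset G) v ⟨1, Finset.mem_univ 1⟩
  have hιv : ∀ x, addVal OE (ιE x) = N * addVal BL x :=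
    Val.addVal_map (ιE : BL →+* OE) π hπ N (by omega) hιπ
  have hdiff : ∀ σ, σ ≠ σ₀ → addVal OE (ιE (act σ π) - ιE (act σ₀ π)) = (N * i (σ₀⁻¹ * σ) : ℕ) := by
    intro σ hσ
    rw [← map_sub, hιv]
    have h2 : act σ π - act σ₀ π = act σ₀ (act (σ₀⁻¹ * σ) π - π) := by
      rw [map_sub, ← AlgEquiv.mul_apply, ← map_mul, mul_inv_cancel_left]
    have h3 : σ₀⁻¹ * σ ≠ 1 := fun h => hσ (by rw [inv_mul_eq_one] at h; exact h.symm)
    have h4 := Val.addVal_equiv (act σ₀ : BL ≃+* BL) (act (σ₀⁻¹ * σ) π - π)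
    rw [h2]
    change (N : ℕ∞) * addVal BL ((act σ₀ : BL ≃+* BL) (act (σ₀⁻¹ * σ) π - π)) = _
    rw [h4, hi _ h3]
    push_cast
    rfl
  refine Comb.false_of i N (v σ₀) v σ₀ σm hσm hmax rfl (fun σ hσ => ?_) U hU ?_
  · have hd := hdiff σ hσ
    have h5 : ιE (act σ π) - ιE (act σ₀ π) = (β - ιE (act σ₀ π)) - (β - ιE (act σ π)) := by ring
    rw [h5] at hd
    rcases lt_or_eq_of_le (hσ₀ σ (Finset.mem_univ σ)) with h6 | h6
    · have h7 : addVal OE (β - ιE (act σ π)) < addVal OE (β - ιE (act σ₀ π)) := by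
        rw [hv, hv]; exact_mod_cast h6
      rw [AddValuation.map_sub_eq_of_lt_right _ h7, hv] at hd
      have hd' : v σ = N * i (σ₀⁻¹ * σ) := by exact_mod_cast hd
      omega
    · have h7 := (addVal OE).map_sub (β - ιE (act σ₀ π)) (β - ιE (act σ π))
      rw [hd, hv, hv, h6, min_self] at h7
      have h8 : v σ₀ ≤ N * i (σ₀⁻¹ * σ) := by exact_mod_cast h7
      omega
  · rw [hsum]
    have : 1 ≤ U * N := Nat.mul_pos hU1 hN
    omega


theorem pert_monic {R : Type*} [CommRing R] (P : R[X]) (e : ℕ) (hPd : P.natDegree = e) (hPm : P.Monic) (F : Type*) [Field F]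
    (φ : R →+* F) (a : F) (r : ℕ) (hr : r < e) :
    (P.map φ - C a * X ^ r).Monic ∧ (P.map φ - C a * X ^ r).natDegree = e := by
  have h1 : (P.map φ).natDegree = e := by rw [hPm.natDegree_map, hPd]
  have h2 : (C a * X ^ r).degree < (P.map φ).degree := by
    refine (degree_C_mul_X_pow_le r a).trans_lt ?_
    rw [degree_eq_natDegree (hPm.map φ).ne_zero, h1]
    exact_mod_cast hr
  refine ⟨(hPm.map φ).sub_of_left h2, ?_⟩
  rw [natDegree_sub_eq_left_of_natDegree_lt, h1]
  rw [h1]
  exact (natDegree_C_mul_X_pow_le a r).trans_lt hr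

/-- The perturbation argument. -/
theorem perturb {R K₀ Ω : Type u} [CommRing R] [IsDomain R] [IsDiscreteValuationRing R] [HenselianLocalRing R] [CharZero R]
    [Field K₀] [Algebra R K₀] [IsFractionRing R K₀] [Field Ω] [IsAlgClosed Ω] [Algebra K₀ Ω] [Algebra R Ω] [IsScalarTower R K₀ Ω]
    {BL : Type u} [CommRing BL] [IsDomain BL] [IsDiscreteValuationRing BL] [Algebra R BL] [Algebra.IsIntegral R BL]
    (ι : BL →ₐ[R] Ω) (ϖ : R) (hϖ : Irreducible ϖ) (π : BL) (hπ : Irreducible π)
    (e : ℕ) (he2 : 2 ≤ e) (he : addVal BL (algebraMap R BL ϖ) = e)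
    {G : Type*} [Group G] [Fintype G] [DecidableEq G] (hcard : Fintype.card G = e) (act : G →* (BL ≃ₐ[R] BL))
    (P : R[X]) (hP : P.map (algebraMap R BL) = ∏ σ : G, (X - C (act σ π)))
    (hlift : ∀ (T : Type u) [CommRing T] [Algebra R T] (b : T), aeval b P = 0 → Nonempty (BL →ₐ[R] T))
    (B : ℚ) (hPB : PropP R K₀ Ω BL ι ϖ B)
    (i : G → ℕ) (hi : ∀ σ, σ ≠ 1 → addVal BL (act σ π - π) = i σ) (σm : G) (hσm : σm ≠ 1)
    (hmax : ∀ τ, τ ≠ 1 → i τ ≤ i σm) (U : ℕ) (hU : U = i σm + ∑ τ ∈ Finset.univ.erase (1 : G), i τ)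
    (hU1 : e < U) (hU2 : e * B < U) : False := by
  have hinjB : Function.Injective (algebraMap R BL) := by
    rw [injective_iff_map_eq_zero]
    intro x hx
    by_contra hx0
    have h1 := Val.addVal_map (algebraMap R BL) ϖ hϖ e (by omega) he x
    obtain ⟨n, hn⟩ := Val.exists_addVal_eq hx0
    rw [hx, addVal_zero, hn] at h1
    exact ENat.top_ne_natCast (e * n) (by rw [h1]; push_cast; rfl)
  -- properties of `P`
  have hPm : P.Monic := by
    refine Polynomial.monic_of_injective hinjB ?_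
    rw [hP]
    exact monic_prod_of_monic _ _ fun σ _ => monic_X_sub_C _
  have hPd : P.natDegree = e := by
    have h1 : (P.map (algebraMap R BL)).natDegree = P.natDegree := hPm.natDegree_map _
    rw [← h1, hP, natDegree_prod_of_monic _ _ fun σ _ => monic_X_sub_C _]
    simp [hcard]
  have hvσ : ∀ σ, addVal BL (act σ π) = 1 := fun σ => by
    have := Val.addVal_equiv (act σ : BL ≃+* BL) π
    rw [addVal_uniformizer hπ] at this
    exact this
  have hres : P.map ((residue BL).comp (algebraMap R BL)) = X ^ e := by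
    rw [← Polynomial.map_map, hP, Polynomial.map_prod]
    have h1 : ∀ σ : G, (X - C (act σ π)).map (residue BL) = X := by
      intro σ
      have h2 : residue BL (act σ π) = 0 := by
        rw [residue_eq_zero_iff, ← pow_one (maximalIdeal BL), Val.mem_maximalIdeal_pow_iff, hvσ]
        rfl
      rw [Polynomial.map_sub, Polynomial.map_X, Polynomial.map_C, h2, C_0, sub_zero]
    simp only [h1, Finset.prod_const, Finset.card_univ, hcard]
  have hc : ∀ j, j < e → ϖ ∣ P.coeff j := by
    intro j hj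
    have h1 := congrArg (fun f => coeff f j) hres
    simp only [coeff_map, coeff_X_pow, RingHom.comp_apply, if_neg (show ¬ j = e by omega)] at h1
    rw [residue_eq_zero_iff, ← pow_one (maximalIdeal BL), Val.mem_maximalIdeal_pow_iff,
      Val.addVal_map (algebraMap R BL) ϖ hϖ e (by omega) he] at h1
    rw [← addVal_le_iff_dvd, addVal_uniformizer hϖ, Order.one_le_iff_ne_zero]
    intro h2
    rw [h2, mul_zero] at h1
    exact absurd h1 (by simp)
  have hc0 : addVal R (P.coeff 0) = 1 := by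
    have h1 : algebraMap R BL (P.coeff 0) = ∏ σ : G, (- act σ π) := by
      rw [← coeff_map, hP, coeff_zero_eq_eval_zero, eval_prod]
      simp
    have h2 : addVal BL (algebraMap R BL (P.coeff 0)) = e := by
      rw [h1, Val.addVal_prod]
      simp only [AddValuation.map_neg, hvσ]
      simp [hcard]
    rw [Val.addVal_map (algebraMap R BL) ϖ hϖ e (by omega) he] at h2
    have h3 : P.coeff 0 ≠ 0 := by
      intro h
      rw [h, addVal_zero, ENat.mul_top (by exact_mod_cast (by omega : e ≠ 0))] at h2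
      exact ENat.top_ne_natCast _ h2
    obtain ⟨n, hn⟩ := Val.exists_addVal_eq h3
    rw [hn] at h2 ⊢
    have h4 : e * n = e * 1 := by rw [mul_one]; exact_mod_cast h2
    have h5 : n = 1 := Nat.eq_of_mul_eq_mul_left (by omega) h4
    rw [h5]; rfl
  -- the numbers
  obtain ⟨c, hcc⟩ := exists_nat_gt (1 / (U - e * B))
  have hUB : (0 : ℚ) < U - e * B := by linarith
  rw [div_lt_iff₀ hUB] at hcc
  obtain ⟨N, hN⟩ : ∃ N, N = e * (c + 1) + 1 := ⟨_, rfl⟩
  obtain ⟨q, hq⟩ : ∃ q, q = (U - 1) / e := ⟨_, rfl⟩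
  obtain ⟨r, hr⟩ : ∃ r, r = (U - 1) % e := ⟨_, rfl⟩
  have hqr : e * q + r = U - 1 := by rw [hq, hr]; exact Nat.div_add_mod (U - 1) e
  have hre : r < e := by rw [hr]; exact Nat.mod_lt _ (by omega)
  have hq1 : 1 ≤ q := by
    rw [hq, Nat.one_le_div_iff (by omega)]; omega
  obtain ⟨M, hM⟩ : ∃ M, M = q * N + (c + 1) := ⟨_, rfl⟩
  have hMN : M * e + r * N + 1 = U * N := by
    have h1 : U = e * q + r + 1 := by omega
    have h2 : (q * N + (c + 1)) * e + r * N + 1 = e * q * N + r * N + (e * (c + 1) + 1) := by ring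
    rw [h1, hM, h2, ← hN]
    ring
  have hMN' : N < M := by
    have : 1 * N ≤ q * N := Nat.mul_le_mul_right N hq1
    omega
  have hN0 : 0 < N := by omega
  have hNB : (B * N * e + 1 : ℚ) < U * N := by
    have h1 : (c : ℚ) ≤ N := by
      have : c ≤ N := by rw [hN]; nlinarith
      exact_mod_cast this
    have h2 : (c : ℚ) * (U - e * B) ≤ N * (U - e * B) := mul_le_mul_of_nonneg_right h1 hUB.le
    linarith
  have hcop : Nat.Coprime e N := by
    rw [hN]
    simp
  -- the field
  obtain ⟨ϖ', hϖ'⟩ := IsAlgClosed.exists_pow_nat_eq (algebraMap R Ω ϖ) hN0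
  obtain ⟨hQm, hQd⟩ := pert_monic P e hPd hPm Ω (algebraMap R Ω) (ϖ' ^ M) r hre
  obtain ⟨β, hβ⟩ := IsAlgClosed.exists_root (P.map (algebraMap R Ω) - C (ϖ' ^ M) * X ^ r) (by
    rw [degree_eq_natDegree hQm.ne_zero, hQd]
    exact_mod_cast (by omega : e ≠ 0))
  have hβ' : aeval β P = ϖ' ^ M * β ^ r := by
    have h1 : eval β (P.map (algebraMap R Ω) - C (ϖ' ^ M) * X ^ r) = 0 := hβ
    rw [eval_sub, eval_mul, eval_C, eval_pow, eval_X, eval_map, ← aeval_def] at h1
    exact sub_eq_zero.1 h1
  obtain ⟨E, hE1, hE2, hE3, hE4⟩ : ∃ E : IntermediateField K₀ Ω, FiniteDimensional K₀ E ∧ ϖ' ∈ E ∧ β ∈ E ∧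
      Module.finrank K₀ E ≤ N * e := by
    let K' := IntermediateField.adjoin K₀ {ϖ'}
    let x' : K' := ⟨ϖ', IntermediateField.mem_adjoin_simple_self K₀ ϖ'⟩
    obtain ⟨hgm, hgd⟩ := pert_monic P e hPd hPm K' (algebraMap R K') (x' ^ M) r hre
    refine exists_field ϖ' β N e (X ^ N - C (algebraMap R K₀ ϖ)) (monic_X_pow_sub_C _ (by omega)) (natDegree_X_pow_sub_C) ?_
      _ hgm hgd ?_
    · rw [map_sub, map_pow, aeval_X, aeval_C, hϖ', ← IsScalarTower.algebraMap_apply, sub_self]
    · have h1 : aeval β (P.map (algebraMap R K')) = aeval β P := by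
        rw [aeval_def, eval₂_map, aeval_def]
        rfl
      have h2 : aeval β (C (x' ^ M) * X ^ r) = ϖ' ^ M * β ^ r := by
        rw [map_mul, aeval_C, map_pow, map_pow, aeval_X]
        rfl
      rw [map_sub, h1, h2, hβ', sub_self]
  have hchar : CharZero K₀ := charZero_of_injective_algebraMap (IsFractionRing.injective R K₀)
  have hsep : Algebra.IsSeparable K₀ E := inferInstance
  obtain ⟨hdvr, hhens, hfrac, hfin, hloc, -⟩ := Groth.Agent.Etbc.H205.HensExt.exists_integralClosure R K₀ E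
  let OE := integralClosure R E
  let φ : OE →ₐ[R] Ω := (E.val.restrictScalars R).comp (integralClosure R E).val
  have hφ : Function.Injective φ := Subtype.val_injective.comp Subtype.val_injective
  have hinjE : Function.Injective (algebraMap R OE) := by
    have h1 : Function.Injective (algebraMap R Ω) := by
      rw [IsScalarTower.algebraMap_eq R K₀ Ω]
      exact (algebraMap K₀ Ω).injective.comp (IsFractionRing.injective R K₀)
    intro x y hxy
    apply h1
    rw [← φ.commutes, ← φ.commutes, hxy]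
  have hmem : ∀ x : Ω, x ∈ E → IsIntegral R x → ∃ y : OE, φ y = x := by
    intro x hx hx2
    refine ⟨⟨⟨x, hx⟩, ?_⟩, rfl⟩
    rw [mem_integralClosure_iff]
    exact (isIntegral_algHom_iff (E.val.restrictScalars R) Subtype.val_injective).1 hx2
  have hϖint : IsIntegral R ϖ' := by
    refine IsIntegral.of_pow hN0 ?_
    rw [hϖ']
    exact isIntegral_algebraMap
  have hβint : IsIntegral R β := by
    let x' : integralClosure R Ω := ⟨ϖ', hϖint⟩
    have h1 : IsIntegral (integralClosure R Ω) β := by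
      refine ⟨P.map (algebraMap R (integralClosure R Ω)) - C (x' ^ M) * X ^ r, ?_, ?_⟩
      · refine (hPm.map _).sub_of_left ?_
        refine (degree_C_mul_X_pow_le r _).trans_lt ?_
        rw [degree_eq_natDegree (hPm.map _).ne_zero, hPm.natDegree_map, hPd]
        exact_mod_cast hre
      · rw [← aeval_def]
        simp only [map_sub, map_mul, map_pow, aeval_X, aeval_C, Polynomial.aeval_map_algebraMap, hβ']
        exact sub_self _
    exact isIntegral_trans β h1
  obtain ⟨x, hx⟩ := hmem ϖ' hE2 hϖint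
  obtain ⟨y, hy⟩ := hmem β hE3 hβint
  have hx2 : x ^ N = algebraMap R OE ϖ := by
    apply hφ
    rw [map_pow, hx, hϖ', φ.commutes]
  have hy2 : aeval y P = x ^ M * y ^ r := by
    apply hφ
    rw [map_mul, map_pow, map_pow, hx, hy, ← hβ', ← hy, Polynomial.aeval_algHom_apply]
  have hϖ0 : algebraMap R OE ϖ ≠ 0 := by
    rw [Ne, map_eq_zero_iff _ hinjE]; exact hϖ.ne_zero
  obtain ⟨e', he'⟩ := Val.exists_addVal_eq hϖ0
  have he'0 : e' ≠ 0 := by
    rintro rfl
    have : IsUnit (algebraMap R OE ϖ) := addVal_eq_zero_iff.1 he'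
    exact hϖ.not_isUnit (isUnit_of_map_unit (algebraMap R OE) ϖ this)
  have hx0 : x ≠ 0 := by
    rintro rfl
    rw [zero_pow hN0.ne'] at hx2
    exact hϖ0 hx2.symm
  obtain ⟨a, ha⟩ := Val.exists_addVal_eq hx0
  have hNa : N * a = e' := by
    have h1 := congrArg (addVal OE) hx2
    rw [addVal_pow, ha, he', nsmul_eq_mul] at h1
    exact_mod_cast h1
  have ha0 : 0 < a := by
    rcases Nat.eq_zero_or_pos a with h | h
    · rw [h, mul_zero] at hNa; exact absurd hNa.symm he'0
    · exact h
  have hval0 : addVal OE (aeval y P) = M * a + r * addVal OE y := by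
    rw [hy2, addVal_mul, addVal_pow, addVal_pow, ha, nsmul_eq_mul, nsmul_eq_mul]
  have hMa : (e' : ℕ∞) < M * a := by
    rw [← hNa]
    exact_mod_cast Nat.mul_lt_mul_of_pos_right hMN' ha0
  -- the valuation of `y`
  have hyval : (e : ℕ∞) * addVal OE y = e' := by
    rcases lt_trichotomy ((e : ℕ∞) * addVal OE y) e' with h | h | h
    · exfalso
      have h1 := Eis.addVal_of_lt ϖ hϖ e' he'0 he' P e hPd hPm hc y h
      rw [hval0] at h1
      have h2 : (e' : ℕ∞) < M * a + r * addVal OE y := lt_of_lt_of_le hMa le_self_add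
      rw [h1] at h2
      exact absurd (h.trans h2) (lt_irrefl _)
    · exact h
    · exfalso
      have h1 := Eis.addVal_of_gt ϖ hϖ e' he'0 he' P e hPd hPm hc hc0 y (by omega) h
      rw [hval0] at h1
      have h2 : (e' : ℕ∞) < M * a + r * addVal OE y := lt_of_lt_of_le hMa le_self_add
      rw [h1] at h2
      exact absurd h2 (lt_irrefl _)
  have hy0 : y ≠ 0 := by
    rintro rfl
    rw [addVal_zero, ENat.mul_top (by exact_mod_cast (by omega : e ≠ 0))] at hyval
    exact ENat.top_ne_natCast _ hyval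
  obtain ⟨b, hb⟩ := Val.exists_addVal_eq hy0
  have heb : e * b = N * a := by
    rw [hb, ← hNa] at hyval
    exact_mod_cast hyval
  obtain ⟨k, hk⟩ : ∃ k, k = M * a + r * b := ⟨_, rfl⟩
  have hvalk : addVal OE (aeval y P) = k := by
    rw [hval0, hb, hk]; push_cast; rfl
  have hek : e * k + a = U * N * a := by
    rw [hk, ← hMN]
    have : e * (M * a + r * b) + a = e * M * a + r * (e * b) + a := by ring
    rw [this, heb]; ring
  have hBk : B * e' < k := by
    have h1 : (e : ℚ) * (B * e') < e * k := by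
      have h2 : (e * k + a : ℚ) = U * N * a := by exact_mod_cast hek
      have h3 : (e' : ℚ) = N * a := by exact_mod_cast hNa.symm
      have h4 : (B * N * e + 1 : ℚ) * a < U * N * a := mul_lt_mul_of_pos_right hNB (by exact_mod_cast ha0)
      rw [h3]
      nlinarith
    have he0 : (0 : ℚ) < e := by exact_mod_cast (by omega : 0 < e)
    exact lt_of_mul_lt_mul_left h1 he0.le
  have hek2 : e' < k := by
    have h1 : e' < M * a := by exact_mod_cast hMa
    omega
  -- property (P)
  obtain ⟨f⟩ := hlift (OE ⧸ (maximalIdeal OE) ^ k) (Ideal.Quotient.mk _ y) (by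
    have h1 : aeval (Ideal.Quotient.mkₐ R ((maximalIdeal OE) ^ k) y) P = 0 := by
      rw [Polynomial.aeval_algHom_apply]
      have : aeval y P ∈ (maximalIdeal OE) ^ k := by
        rw [Val.mem_maximalIdeal_pow_iff, hvalk]
      exact Ideal.Quotient.eq_zero_iff_mem.2 this
    exact h1)
  have hιE := hPB E k e' he' hBk hek2 ⟨f⟩
  have hιint : ∀ b, IsIntegral R (ι b) := fun b => (Algebra.IsIntegral.isIntegral (R := R) b).map ι
  have hφE : φ.range = (integralClosure R Ω) ⊓ (E.toSubalgebra.restrictScalars R) := by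
    ext z
    rw [AlgHom.mem_range, Algebra.mem_inf]
    constructor
    · rintro ⟨z, rfl⟩
      exact ⟨((Algebra.IsIntegral.isIntegral (R := R) z).map φ), (z : E).2⟩
    · rintro ⟨h1, h2⟩
      exact hmem z h2 h1
  let ιE : BL →ₐ[R] OE := (AlgEquiv.ofInjective φ hφ).symm.toAlgHom.comp (ι.codRestrict φ.range (fun b => by
    rw [hφE]
    exact ⟨hιint b, hιE b⟩))
  have hπ0 : ιE (algebraMap R BL ϖ) = algebraMap R OE ϖ := ιE.commutes ϖ
  obtain ⟨n, u, hnu⟩ := eq_unit_mul_pow_irreducible (show algebraMap R BL ϖ ≠ 0 by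
    rw [Ne, map_eq_zero_iff _ hinjB]; exact hϖ.ne_zero) hπ
  have hne : n = e := by
    rw [hnu, addVal_def' u hπ n] at he
    exact_mod_cast he
  subst hne
  have h1 : addVal OE (algebraMap R OE ϖ) = n * addVal OE (ιE π) := by
    rw [← hπ0, hnu, map_mul, map_pow, addVal_mul, addVal_pow, nsmul_eq_mul]
    have : addVal OE (ιE u) = 0 := addVal_eq_zero_of_unit (u.map (ιE : BL →* OE))
    rw [this, zero_add]
  have hιπ0 : ιE π ≠ 0 := by
    intro h
    rw [h, addVal_zero, he', ENat.mul_top (by exact_mod_cast (by omega : n ≠ 0))] at h1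
    exact ENat.top_ne_natCast _ h1.symm
  obtain ⟨m, hm⟩ := Val.exists_addVal_eq hιπ0
  have hnm : n * m = N * a := by
    rw [he', hm, ← hNa] at h1
    exact_mod_cast h1.symm
  have hdvd : n ∣ a := hcop.dvd_of_dvd_mul_left (Dvd.intro m hnm)
  have hfaith : FaithfulSMul R OE := (faithfulSMul_iff_algebraMap_injective R OE).2 hinjE
  have hfi := Val.le_finrank R OE K₀ E ϖ hϖ e' he'
  have han : a = n := by
    have h2 : N * a ≤ N * n := by rw [hNa]; exact hfi.trans hE4
    have h3 := Nat.le_of_mul_le_mul_left h2 hN0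
    exact le_antisymm h3 (Nat.le_of_dvd ha0 hdvd)
  have hmN : m = N := by
    rw [han, mul_comm N n] at hnm
    exact Nat.eq_of_mul_eq_mul_left (by omega) hnm
  have hkU : k = U * N - 1 := by
    rw [han] at hek
    have h2 : n * (k + 1) = n * (U * N) := by
      have : n * (k + 1) = n * k + n := by ring
      rw [this, hek]; ring
    have h3 := Nat.eq_of_mul_eq_mul_left (by omega) h2
    omega
  rw [hmN] at hm
  rw [hkU] at hvalk
  exact final ιE π hπ N (by omega) hm act P hP y i hi σm hσm hmax U hU (by omega) hvalk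

end K774.Core
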