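import Groth.Agent.Font.K774.Val
import Mathlib.Algebra.Polynomial.AlgebraMap

/-!
# Values of Eisenstein polynomials
-/

set_option autoImplicit false
universe u v

open IsDiscreteValuationRing Polynomial

namespace K774.Eis

variable {R : Type u} [CommRing R] [IsDomain R] [IsDiscreteValuationRing R] {C : Type v} [CommRing C] [IsDomain C]
  [IsDiscreteValuationRing C] [Algebra R C] (ϖ : R) (hϖ : Irreducible ϖ) (e' : ℕ) (he' : e' ≠ 0)
  (hee : addVal C (algebraMap R C ϖ) = e') (P : R[X]) (e : ℕ) (hdeg : P.natDegree = e) (hmonic : P.Monic)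
  (hc : ∀ i, i < e → ϖ ∣ P.coeff i) (hc0 : addVal R (P.coeff 0) = 1) (β : C)

include hϖ he' hee hc in
theorem le_coeff (i : ℕ) (hi : i < e) : (e' : ℕ∞) ≤ addVal C (algebraMap R C (P.coeff i)) := by
  rw [Val.addVal_map (algebraMap R C) ϖ hϖ e' he' hee]
  obtain ⟨d, hd⟩ := hc i hi
  rw [hd, addVal_mul, addVal_uniformizer hϖ]
  calc (e' : ℕ∞) = e' * 1 := (mul_one _).symm
    _ ≤ _ := mul_le_mul_right (by simp) _

include hdeg hmonic in
omit [IsDomain R] [IsDiscreteValuationRing R] [IsDomain C] [IsDiscreteValuationRing C] in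
theorem aeval_eq : aeval β P = (∑ i ∈ Finset.range e, algebraMap R C (P.coeff i) * β ^ i) + β ^ e := by
  rw [Polynomial.aeval_eq_sum_range, hdeg, Finset.sum_range_succ]
  have : P.coeff e = 1 := by rw [← hdeg]; exact hmonic
  rw [this, one_smul]
  congr 1
  exact Finset.sum_congr rfl fun i _ => Algebra.smul_def _ _

include hϖ he' hee hc hdeg hmonic in
/-- Small valuation. -/
theorem addVal_of_lt (h : e * addVal C β < e') : addVal C (aeval β P) = e * addVal C β := by
  rw [aeval_eq P e hdeg hmonic]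
  have h1 : (e' : ℕ∞) ≤ addVal C (∑ i ∈ Finset.range e, algebraMap R C (P.coeff i) * β ^ i) := by
    refine (addVal C).map_le_sum fun i hi => ?_
    rw [addVal_mul]
    exact (le_coeff ϖ hϖ e' he' hee P e hc i (Finset.mem_range.1 hi)).trans le_self_add
  have h2 : addVal C (β ^ e) = e * addVal C β := by rw [addVal_pow, nsmul_eq_mul]
  rw [AddValuation.map_add_eq_of_lt_right, h2]
  rw [h2]
  exact lt_of_lt_of_le h h1

include hϖ he' hee hc hc0 hdeg hmonic in
/-- Large valuation. -/
theorem addVal_of_gt (he : 1 ≤ e) (h : (e' : ℕ∞) < e * addVal C β) : addVal C (aeval β P) = e' := by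
  rw [aeval_eq P e hdeg hmonic]
  obtain ⟨n, rfl⟩ : ∃ n, e = n + 1 := ⟨e - 1, by omega⟩
  rw [Finset.sum_range_succ', pow_zero, mul_one]
  have h0 : addVal C (algebraMap R C (P.coeff 0)) = e' := by
    rw [Val.addVal_map (algebraMap R C) ϖ hϖ e' he' hee, hc0, mul_one]
  have hβ : 1 ≤ addVal C β := by
    rw [Order.one_le_iff_ne_zero]
    intro h1
    rw [h1, mul_zero] at h
    exact absurd h (by simp)
  have hlt : (e' : ℕ∞) < e' + 1 := by exact_mod_cast Nat.lt_succ_self e'
  have h1 : (e' : ℕ∞) < addVal C (∑ i ∈ Finset.range n, algebraMap R C (P.coeff (i + 1)) * β ^ (i + 1)) := by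
    refine (addVal C).map_lt_sum (by simp) fun i hi => ?_
    rw [addVal_mul, pow_succ, addVal_mul]
    have h3 := le_coeff ϖ hϖ e' he' hee P (n + 1) hc (i + 1) (by have := Finset.mem_range.1 hi; omega)
    refine lt_of_lt_of_le hlt ?_
    refine add_le_add h3 (hβ.trans le_add_self)
  have h2 : (e' : ℕ∞) < addVal C (β ^ (n + 1)) := by
    rw [addVal_pow, nsmul_eq_mul]; exact h
  rw [add_right_comm, AddValuation.map_add_eq_of_lt_right, h0]
  rw [h0]
  exact (addVal C).map_lt_add h1 h2

end K774.Eis
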