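import Groth.Agent.Font.K774.Ram
import Mathlib.FieldTheory.IsAlgClosed.AlgebraicClosure
import Mathlib.FieldTheory.Galois.IsGaloisGroup
import Mathlib.RingTheory.Henselian

/-!
# Fontaine's ramification bound, for the field generated by the points
-/

set_option autoImplicit false
set_option linter.unusedSectionVars false
universe u v

open IsDiscreteValuationRing Polynomial IsLocalRing

namespace K774.Global

theorem henselian (A : Type u) [CommRing A] [IsLocalRing A] [IsAdicComplete (maximalIdeal A) A] :
    HenselianLocalRing A where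
  is_henselian := by
    intro f hf a h1 h2
    exact (IsAdicComplete.henselianRing A (maximalIdeal A)).is_henselian f hf a h1 (h2.map (Ideal.Quotient.mk (maximalIdeal A)))

section normal

variable (O : Type u) [CommRing O] [IsDomain O] {A : Type u} [CommRing A] [Algebra O A]
  (L : IntermediateField (FractionRing O) (AlgebraicClosure (FractionRing O)))
    (hL : L = IntermediateField.adjoin (FractionRing O)
      (⋃ φ : A →ₐ[O] AlgebraicClosure (FractionRing O), Set.range φ))

include hL in
theorem normal : Normal (FractionRing O) L := by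
  rw [IntermediateField.normal_iff_forall_map_le]
  intro σ
  rw [hL, IntermediateField.adjoin_map]
  apply IntermediateField.adjoin.mono
  rintro _ ⟨x, hx, rfl⟩
  obtain ⟨φ, y, rfl⟩ := Set.mem_iUnion.1 hx
  exact Set.mem_iUnion.2 ⟨(σ.restrictScalars O).comp φ, y, rfl⟩

end normal

/-- The main ramification bound. -/
theorem bound (O : Type u) [CommRing O] [IsDomain O] [IsDiscreteValuationRing O]
    [IsAdicComplete (maximalIdeal O) O] [CharZero O] [PerfectField (ResidueField O)]
    {A : Type u} [CommRing A] [Algebra O A] [Module.Finite O A] {p va eK : ℕ} (hp : 2 ≤ p)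
    (H : Points.Lifting O A p va eK)
    (L : IntermediateField (FractionRing O) (AlgebraicClosure (FractionRing O)))
    (hL : L = IntermediateField.adjoin (FractionRing O)
      (⋃ φ : A →ₐ[O] AlgebraicClosure (FractionRing O), Set.range φ))
    [FiniteDimensional (FractionRing O) L] [Module.IsTorsionFree O (integralClosure O L)]
    (P : Ideal (integralClosure O L)) [P.IsMaximal]
    (hB1 : (∃ σ : L ≃ₐ[FractionRing O] L, σ ≠ AlgEquiv.refl ∧ ∀ x : integralClosure O L, ∃ y ∈ P,
      algebraMap (integralClosure O L) L y = σ (algebraMap (integralClosure O L) L x) - algebraMap (integralClosure O L) L x) → 1 ≤ va) :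
    ∃ d : ℕ, differentIdeal O (integralClosure O L) = P ^ d ∧
      ((d = 0 ∧ ∀ σ : L ≃ₐ[FractionRing O] L, σ ≠ AlgEquiv.refl → ∀ j : ℕ,
        (∀ x : (integralClosure O L), ∃ y ∈ P ^ j, algebraMap (integralClosure O L) L y = σ (algebraMap (integralClosure O L) L x) - algebraMap (integralClosure O L) L x) → j = 0) ∨
      ((d : ℚ) + 1 ≤ (P.ramificationIdx O : ℚ) * (va + eK / ((p : ℚ) - 1)) ∧
      ∀ σ : L ≃ₐ[FractionRing O] L, σ ≠ AlgEquiv.refl → ∀ j : ℕ,
        (∀ x : (integralClosure O L), ∃ y ∈ P ^ j, algebraMap (integralClosure O L) L y = σ (algebraMap (integralClosure O L) L x) - algebraMap (integralClosure O L) L x) →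
          (j : ℚ) + d ≤ (P.ramificationIdx O : ℚ) * (va + eK / ((p : ℚ) - 1)))) := by
  have hH : HenselianLocalRing O := henselian O
  have hcK : CharZero (FractionRing O) := charZero_of_injective_algebraMap (IsFractionRing.injective O (FractionRing O))
  have hnormal := normal O L hL
  have hGal : IsGalois (FractionRing O) L := ⟨⟩
  obtain ⟨hdvr, hhens, hfr, hfin, hloc, -⟩ :=
    Groth.Agent.Etbc.H205.HensExt.exists_integralClosure O (FractionRing O) L
  obtain rfl : P = maximalIdeal (integralClosure O L) := IsLocalRing.eq_maximalIdeal ‹_›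
  let act : MulSemiringAction (L ≃ₐ[FractionRing O] L) (integralClosure O L) :=
    IsIntegralClosure.MulSemiringAction O (FractionRing O) L (integralClosure O L)
  have hGG : IsGaloisGroup (L ≃ₐ[FractionRing O] L) O (integralClosure O L) :=
    IsGaloisGroup.of_isFractionRing _ _ _ (FractionRing O) L
  have hact : ∀ (σ : L ≃ₐ[FractionRing O] L) (x : integralClosure O L), ((σ • x : integralClosure O L) : L) = σ x := by
    intro σ x
    exact algebraMap_galRestrict_apply O σ x
  let I : Subgroup (L ≃ₐ[FractionRing O] L) := (maximalIdeal (integralClosure O L)).inertia _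
  let K₀ : IntermediateField (FractionRing O) L := FixedPoints.intermediateField I
  have hIK : IsGaloisGroup I K₀ L := inferInstance
  obtain ⟨hdvr', hhens', hfr', hfin', hloc', -⟩ :=
    Groth.Agent.Etbc.H205.HensExt.exists_integralClosure O (FractionRing O) K₀
  have hperf : PerfectField (ResidueField (integralClosure O K₀)) :=
    Groth.Agent.Etbc.H205.HensExt.perfectField_residueField O (FractionRing O) K₀ inferInstance
  have tOL : IsScalarTower O L (AlgebraicClosure (FractionRing O)) := .of_algebraMap_eq fun x => by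
    rw [IsScalarTower.algebraMap_apply O (FractionRing O) L, ← IsScalarTower.algebraMap_apply (FractionRing O) L,
      ← IsScalarTower.algebraMap_apply]
  have tOK : IsScalarTower O K₀ L := .of_algebraMap_eq fun x => by
    rw [IsScalarTower.algebraMap_apply O (FractionRing O) K₀, ← IsScalarTower.algebraMap_apply (FractionRing O) K₀ L,
      ← IsScalarTower.algebraMap_apply]
  have hpts : ∀ (χ : A →ₐ[O] AlgebraicClosure (FractionRing O)) (a : A), ∃ b : integralClosure O L,
      algebraMap L (AlgebraicClosure (FractionRing O)) (algebraMap (integralClosure O L) L b) = χ a := by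
    intro χ a
    have h1 : χ a ∈ L := by
      rw [hL]
      exact IntermediateField.subset_adjoin _ _ (Set.mem_iUnion.2 ⟨χ, a, rfl⟩)
    have h2 : IsIntegral O (χ a) := (Algebra.IsIntegral.isIntegral a).map χ
    have h3 : IsIntegral O (⟨χ a, h1⟩ : L) :=
      (isIntegral_algHom_iff (IsScalarTower.toAlgHom O L (AlgebraicClosure (FractionRing O)))
        (algebraMap L (AlgebraicClosure (FractionRing O))).injective).1 h2
    exact ⟨⟨⟨χ a, h1⟩, h3⟩, rfl⟩
  have hgen : ∀ (F : IntermediateField (FractionRing O) (AlgebraicClosure (FractionRing O))),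
      (∀ (χ : A →ₐ[O] AlgebraicClosure (FractionRing O)) (a : A), χ a ∈ F) → ∀ b : L,
      algebraMap L (AlgebraicClosure (FractionRing O)) b ∈ F := by
    intro F hF b
    have h1 : L ≤ F := by
      rw [hL, IntermediateField.adjoin_le_iff]
      intro x hx
      obtain ⟨φ, y, rfl⟩ := Set.mem_iUnion.1 hx
      exact hF φ y
    exact h1 b.2
  obtain ⟨d, hd1, hd2⟩ := Ram.bound_mid hp H (integralClosure O K₀) K₀ I rfl hpts hgen (fun hI => by
    apply hB1
    obtain ⟨⟨σ, hσI⟩, hσ1⟩ := Subgroup.ne_bot_iff_exists_ne_one.1 hI
    refine ⟨σ, fun h => hσ1 (Subtype.ext h), fun x => ⟨σ • x - x, hσI x, ?_⟩⟩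
    rw [map_sub]
    exact congrArg (· - algebraMap (integralClosure O L) L x) (hact σ x))
  have hconv : ∀ (σ : L ≃ₐ[FractionRing O] L) (j : ℕ), (∀ x : (integralClosure O L), ∃ y ∈ (maximalIdeal (integralClosure O L)) ^ j,
      algebraMap (integralClosure O L) L y = σ (algebraMap (integralClosure O L) L x) - algebraMap (integralClosure O L) L x) →
      ∀ x : integralClosure O L, σ • x - x ∈ maximalIdeal (integralClosure O L) ^ j := by
    intro σ j h x
    obtain ⟨y, hy, hyx⟩ := h x
    have : σ • x - x = y := by
      apply Subtype.ext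
      rw [show ((σ • x - x : integralClosure O L) : L) = ((σ • x : integralClosure O L) : L) - (x : L) from rfl, hact]
      exact hyx.symm
    rw [this]
    exact hy
  refine ⟨d, hd1, ?_⟩
  rcases hd2 with ⟨h1, h2⟩ | ⟨h1, h2⟩
  · exact Or.inl ⟨h1, fun σ hσ j hj => h2 σ hσ j (hconv σ j hj)⟩
  · exact Or.inr ⟨h1, fun σ hσ j hj => h2 σ hσ j (hconv σ j hj)⟩

end K774.Global
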