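import Groth.Agent.Font.K774.Root
import Groth.Agent.Sga3A.PowConv
import Mathlib.RingTheory.TensorProduct.Maps

/-!
# Lifting group-like elements

`H` a commutative Hopf algebra over `O` killed by `q = p^n`, `S` an `O`-algebra. Elements of `S ⊗ H` that are group-like modulo
`ϖ^(t + n w)` lift to group-like elements modulo `ϖ^t`, if `p = u ϖ^w` and `(p-1) t > w`.
-/

set_option autoImplicit false
universe u v w

open TensorProduct SGA3b Coalgebra Bialgebra WithConv

namespace K774.GroupLift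

variable (O : Type u) [CommRing O] (H : Type u) [CommRing H] [HopfAlgebra O H] (S : Type u) [CommRing S] [Algebra O S]

/-- Pullback along the multiplication. -/
noncomputable def mu : S ⊗[O] H →ₐ[S] S ⊗[O] (H ⊗[O] H) := Algebra.TensorProduct.map (AlgHom.id S S) (Bialgebra.comulAlgHom O H)

/-- Pullback along the first projection. -/
noncomputable def p1 : S ⊗[O] H →ₐ[S] S ⊗[O] (H ⊗[O] H) :=
  Algebra.TensorProduct.map (AlgHom.id S S) (Algebra.TensorProduct.includeLeft (R := O) (S := O) (A := H) (B := H))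

/-- Pullback along the second projection. -/
noncomputable def p2 : S ⊗[O] H →ₐ[S] S ⊗[O] (H ⊗[O] H) :=
  Algebra.TensorProduct.map (AlgHom.id S S) (Algebra.TensorProduct.includeRight (R := O) (A := H) (B := H))

/-- Pullback along the `i`-th power map. -/
noncomputable def pw (i : ℕ) : S ⊗[O] H →ₐ[S] S ⊗[O] H := Algebra.TensorProduct.map (AlgHom.id S S) (powConv O H i)

/-- Pullback along `x ↦ (x^i, x)`. -/
noncomputable def psi (i : ℕ) : S ⊗[O] (H ⊗[O] H) →ₐ[S] S ⊗[O] H :=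
  Algebra.TensorProduct.map (AlgHom.id S S)
    (Algebra.TensorProduct.lift (powConv O H i) (AlgHom.id O H) (fun _ _ => .all ..))

theorem psi_mu (i : ℕ) (z : S ⊗[O] H) : psi O H S i (mu O H S z) = pw O H S (i + 1) z := by
  have : (psi O H S i).comp (mu O H S) = pw O H S (i + 1) := by
    apply Algebra.TensorProduct.ext
    · ext
    · ext h
      simp only [psi, mu, pw, AlgHom.comp_apply, AlgHom.restrictScalars_apply, Algebra.TensorProduct.includeRight_apply,
        Algebra.TensorProduct.map_tmul, AlgHom.id_apply]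
      rw [Groth.Agent.Sga3A.PowConv.powConv_succ_apply]
      rfl
  exact DFunLike.congr_fun this z

theorem psi_p1 (i : ℕ) (z : S ⊗[O] H) : psi O H S i (p1 O H S z) = pw O H S i z := by
  have : (psi O H S i).comp (p1 O H S) = pw O H S i := by
    apply Algebra.TensorProduct.ext
    · ext
    · ext h
      simp [psi, p1, pw]
  exact DFunLike.congr_fun this z

theorem psi_p2 (i : ℕ) (z : S ⊗[O] H) : psi O H S i (p2 O H S z) = z := by
  have : (psi O H S i).comp (p2 O H S) = AlgHom.id S _ := by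
    apply Algebra.TensorProduct.ext
    · ext
    · ext h
      simp [psi, p2]
  exact DFunLike.congr_fun this z

/-- Telescoping. -/
theorem prod_psi (z : S ⊗[O] H) (g : S ⊗[O] (H ⊗[O] H)) (hg : g * (p1 O H S z * p2 O H S z) = mu O H S z) (k : ℕ) :
    (∏ i ∈ Finset.range k, psi O H S i g) * z ^ k * pw O H S 0 z = pw O H S k z := by
  induction k with
  | zero => simp
  | succ k ih =>
    have h1 : psi O H S k g * (pw O H S k z * z) = pw O H S (k + 1) z := by
      rw [← psi_mu, ← hg, map_mul, map_mul, psi_p1, psi_p2]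
    rw [Finset.prod_range_succ, ← h1, ← ih, pow_succ]
    ring

theorem pw_eq_pw_zero {q : ℕ} (hq : powConv O H q = powConv O H 0) (z : S ⊗[O] H) : pw O H S q z = pw O H S 0 z := by
  rw [pw, pw, hq]

/-- Relations for units: the product of the `psi i g`. -/
theorem prod_psi_mul_pow {q : ℕ} (hq : powConv O H q = powConv O H 0) (z : S ⊗[O] H) (hz : IsUnit z) (g : S ⊗[O] (H ⊗[O] H))
    (hg : g * (p1 O H S z * p2 O H S z) = mu O H S z) : (∏ i ∈ Finset.range q, psi O H S i g) * z ^ q = 1 := by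
  have h1 := prod_psi O H S z g hg q
  rw [pw_eq_pw_zero O H S hq] at h1
  have h2 : IsUnit (pw O H S 0 z) := hz.map (pw O H S 0)
  exact h2.mul_right_cancel (by rw [h1, one_mul])

theorem pow_eq_one {q : ℕ} (hq : powConv O H q = powConv O H 0) (z : S ⊗[O] H) (hz : IsUnit z)
    (hg : p1 O H S z * p2 O H S z = mu O H S z) : z ^ q = 1 := by
  have h1 := prod_psi_mul_pow O H S hq z hz 1 (by rw [one_mul, hg])
  simpa using h1

theorem dvd_map_sub {R₁ R₂ : Type*} [CommRing R₁] [CommRing R₂] [Algebra S R₁] [Algebra S R₂] (f : R₁ →ₐ[S] R₂) (ϖ : S) (t : ℕ)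
    (x y : R₁) (h : algebraMap S R₁ ϖ ^ t ∣ x - y) : algebraMap S R₂ ϖ ^ t ∣ f x - f y := by
  obtain ⟨c, hc⟩ := h
  refine ⟨f c, ?_⟩
  rw [← map_sub, hc, map_mul, map_pow, AlgHom.commutes]

theorem dvd_prod_sub_one {M : Type*} [CommRing M] (a : M) {ι : Type*} (s : Finset ι) (f : ι → M) (h : ∀ i ∈ s, a ∣ f i - 1) :
    a ∣ (∏ i ∈ s, f i) - 1 := by
  classical
  induction s using Finset.induction_on with
  | empty => simp
  | insert i s hi ih =>
    rw [Finset.prod_insert hi]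
    have h1 : f i * (∏ x ∈ s, f x) - 1 = (f i - 1) * (∏ x ∈ s, f x) + ((∏ x ∈ s, f x) - 1) := by ring
    rw [h1]
    exact dvd_add (Dvd.dvd.mul_right (h i (Finset.mem_insert_self _ _)) _)
      (ih fun j hj => h j (Finset.mem_insert_of_mem hj))

section main

variable (ϖ : S) (p : ℕ) (hp : p.Prime) (w : ℕ) (u : Sˣ) (hu : (p : S) = u * ϖ ^ w) (n : ℕ)
  (hq : powConv O H (p ^ n) = powConv O H 0)
  [IsAdicComplete (Ideal.span {algebraMap S (S ⊗[O] H) ϖ}) (S ⊗[O] H)]
  [IsAdicComplete (Ideal.span {algebraMap S (S ⊗[O] (H ⊗[O] H)) ϖ}) (S ⊗[O] (H ⊗[O] H))]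
  (hr1 : ∀ x, algebraMap S (S ⊗[O] H) ϖ * x = 0 → x = 0)
  (hr2 : ∀ x, algebraMap S (S ⊗[O] (H ⊗[O] H)) ϖ * x = 0 → x = 0)

omit [IsAdicComplete (Ideal.span {algebraMap S (S ⊗[O] H) ϖ}) (S ⊗[O] H)]
  [IsAdicComplete (Ideal.span {algebraMap S (S ⊗[O] (H ⊗[O] H)) ϖ}) (S ⊗[O] (H ⊗[O] H))] in
include hu in
theorem cast_eq (M : Type*) [CommRing M] [Algebra S M] : (p : M) = (u.map (algebraMap S M).toMonoidHom : Mˣ) * algebraMap S M ϖ ^ w := by
  have := congrArg (algebraMap S M) hu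
  rw [map_natCast, map_mul, map_pow] at this
  exact this

include hp hu hq hr1 in
omit [IsAdicComplete (Ideal.span {algebraMap S (S ⊗[O] (H ⊗[O] H)) ϖ}) (S ⊗[O] (H ⊗[O] H))] in
/-- Uniqueness. -/
theorem unique {t : ℕ} (ht : w < (p - 1) * t) (z z' : S ⊗[O] H) (hz : IsUnit z) (hz' : IsUnit z')
    (hg : p1 O H S z * p2 O H S z = mu O H S z) (hg' : p1 O H S z' * p2 O H S z' = mu O H S z')
    (h : algebraMap S (S ⊗[O] H) ϖ ^ t ∣ z - z') : z = z' := by
  have e1 := pow_eq_one O H S hq z hz hg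
  have e2 := pow_eq_one O H S hq z' hz' hg'
  obtain ⟨z', rfl⟩ := hz'
  have h1 : z * ↑z'⁻¹ = 1 := by
    refine Root.pow_pow_eq_one (algebraMap S (S ⊗[O] H) ϖ) hr1 p hp w _ (cast_eq S ϖ p w u hu _) ht n _ ?_ ?_
    · have : z * (↑z'⁻¹ : S ⊗[O] H) - 1 = (z - z') * ↑z'⁻¹ := by
        have := Units.mul_inv z'
        linear_combination this
      rw [this]
      exact Dvd.dvd.mul_right h _
    · have e3 : (↑z'⁻¹ : S ⊗[O] H) ^ p ^ n = 1 := by
        have e4 : z' ^ p ^ n = 1 := Units.ext (by simpa using e2)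
        have e5 : z'⁻¹ ^ p ^ n = 1 := by rw [inv_pow, e4, inv_one]
        have := congrArg Units.val e5
        simpa using this
      rw [mul_pow, e1, e3, one_mul]
  calc z = z * ↑z'⁻¹ * z' := by rw [mul_assoc, Units.inv_mul, mul_one]
    _ = z' := by rw [h1, one_mul]

include hp hu hq hr2 in
omit [IsAdicComplete (Ideal.span {algebraMap S (S ⊗[O] H) ϖ}) (S ⊗[O] H)] in
/-- Existence. -/
theorem exists_lift {t : ℕ} (ht : w < (p - 1) * t) (z : S ⊗[O] H) (hz : IsUnit z)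
    (hg : algebraMap S (S ⊗[O] (H ⊗[O] H)) ϖ ^ (t + n * w) ∣ mu O H S z - p1 O H S z * p2 O H S z) :
    ∃ z' : S ⊗[O] H, IsUnit z' ∧ algebraMap S (S ⊗[O] H) ϖ ^ t ∣ z' - z ∧ p1 O H S z' * p2 O H S z' = mu O H S z' := by
  obtain ⟨U, hU⟩ : IsUnit (p1 O H S z * p2 O H S z) := (hz.map (p1 O H S)).mul (hz.map (p2 O H S))
  set g : S ⊗[O] (H ⊗[O] H) := mu O H S z * ↑U⁻¹ with hgdef
  have hg1 : g * (p1 O H S z * p2 O H S z) = mu O H S z := by
    rw [hgdef, ← hU, mul_assoc, Units.inv_mul, mul_one]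
  have hg2 : algebraMap S (S ⊗[O] (H ⊗[O] H)) ϖ ^ (t + n * w) ∣ g - 1 := by
    have : g - 1 = (mu O H S z - p1 O H S z * p2 O H S z) * ↑U⁻¹ := by
      rw [sub_mul, ← hgdef, ← hU, Units.mul_inv]
    rw [this]
    exact Dvd.dvd.mul_right hg _
  obtain ⟨h, hh1, hh2⟩ := Root.exists_pow_root (algebraMap S (S ⊗[O] (H ⊗[O] H)) ϖ) p hp w _ (cast_eq S ϖ p w u hu _) ht n g hg2
  set N : S ⊗[O] H := ∏ i ∈ Finset.range (p ^ n), psi O H S i h with hN
  have hN1 : algebraMap S (S ⊗[O] H) ϖ ^ t ∣ N - 1 := by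
    rw [hN]
    refine dvd_prod_sub_one _ _ _ fun i _ => ?_
    have := dvd_map_sub S (psi O H S i) ϖ t h 1 hh1
    rwa [map_one] at this
  have hN2 : N ^ p ^ n * z ^ p ^ n = 1 := by
    rw [hN, ← Finset.prod_pow]
    have : ∀ i, psi O H S i h ^ p ^ n = psi O H S i g := fun i => by rw [← map_pow, hh2]
    simp only [this]
    exact prod_psi_mul_pow O H S hq z hz g hg1
  have hz1 : (z * N) ^ p ^ n = 1 := by rw [mul_pow, mul_comm, hN2]
  have hpn : p ^ n ≠ 0 := pow_ne_zero n hp.ne_zero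
  have hz2 : IsUnit (z * N) := IsUnit.of_pow_eq_one hz1 hpn
  have hz3 : algebraMap S (S ⊗[O] H) ϖ ^ t ∣ z * N - z := by
    have : z * N - z = (N - 1) * z := by ring
    rw [this]
    exact Dvd.dvd.mul_right hN1 _
  refine ⟨z * N, hz2, hz3, ?_⟩
  have ht1 : algebraMap S (S ⊗[O] (H ⊗[O] H)) ϖ ^ t ∣ mu O H S (z * N) - p1 O H S (z * N) * p2 O H S (z * N) := by
    have a1 := dvd_map_sub S (mu O H S) ϖ t _ _ hN1
    have a2 := dvd_map_sub S (p1 O H S) ϖ t _ _ hN1
    have a3 := dvd_map_sub S (p2 O H S) ϖ t _ _ hN1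
    rw [map_one] at a1 a2 a3
    have a4 : algebraMap S (S ⊗[O] (H ⊗[O] H)) ϖ ^ t ∣ mu O H S z - p1 O H S z * p2 O H S z :=
      (pow_dvd_pow _ (Nat.le_add_right _ _)).trans hg
    rw [map_mul, map_mul, map_mul]
    have : mu O H S z * mu O H S N - p1 O H S z * p1 O H S N * (p2 O H S z * p2 O H S N) =
      (mu O H S z - p1 O H S z * p2 O H S z) * mu O H S N +
      p1 O H S z * p2 O H S z * ((mu O H S N - 1) - (p1 O H S N - 1) * p2 O H S N - (p2 O H S N - 1)) := by ring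
    rw [this]
    exact dvd_add (Dvd.dvd.mul_right a4 _) (Dvd.dvd.mul_left (dvd_sub (dvd_sub a1 (Dvd.dvd.mul_right a2 _)) a3) _)
  obtain ⟨V, hV⟩ : IsUnit (p1 O H S (z * N) * p2 O H S (z * N)) := (hz2.map (p1 O H S)).mul (hz2.map (p2 O H S))
  have h1 : mu O H S (z * N) * ↑V⁻¹ = 1 := by
    refine Root.pow_pow_eq_one (algebraMap S (S ⊗[O] (H ⊗[O] H)) ϖ) hr2 p hp w _ (cast_eq S ϖ p w u hu _) ht n _ ?_ ?_
    · have : mu O H S (z * N) * (↑V⁻¹ : S ⊗[O] (H ⊗[O] H)) - 1 = (mu O H S (z * N) - p1 O H S (z * N) * p2 O H S (z * N)) * ↑V⁻¹ := by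
        rw [sub_mul, ← hV, Units.mul_inv]
      rw [this]
      exact Dvd.dvd.mul_right ht1 _
    · have e2 : (V : S ⊗[O] (H ⊗[O] H)) ^ p ^ n = 1 := by
        rw [hV, mul_pow, ← map_pow, ← map_pow, hz1, map_one, map_one, one_mul]
      have e3 : (↑V⁻¹ : S ⊗[O] (H ⊗[O] H)) ^ p ^ n = 1 := by
        have e4 : V ^ p ^ n = 1 := Units.ext (by simpa using e2)
        have e5 : V⁻¹ ^ p ^ n = 1 := by rw [inv_pow, e4, inv_one]
        have := congrArg Units.val e5
        simpa using this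
      rw [mul_pow, ← map_pow, hz1, map_one, e3, one_mul]
  calc p1 O H S (z * N) * p2 O H S (z * N) = (mu O H S (z * N) * ↑V⁻¹) * V := by rw [h1, one_mul, hV]
    _ = mu O H S (z * N) := by rw [mul_assoc, Units.inv_mul, mul_one]

end main

end K774.GroupLift
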