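import Groth.Agent.Font.K774.GroupLift
import Groth.Agent.OortTate.K956.DualEig
import Mathlib.LinearAlgebra.Contraction
import Mathlib.RingTheory.Flat.TorsionFree

/-!
# Lifting points of finite flat commutative group schemes

`A` a commutative and cocommutative Hopf algebra over `O`, finite projective as a module, killed by `p^n`.
-/

set_option autoImplicit false
universe u v w

open TensorProduct SGA3b Coalgebra Bialgebra WithConv

namespace K774.HopfPoints

open K774.GroupLift

section tau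

variable {O : Type u} [CommRing O] {N D S : Type u} [AddCommGroup N] [Module O N] [Module.Finite O N] [Module.Projective O N]
  [AddCommGroup D] [Module O D] [CommRing S] [Algebra O S]

/-- `S ⊗ D ≃ Hom(N, S)` for `D` the dual of `N`. -/
noncomputable def tau (e : D ≃ₗ[O] Module.Dual O N) : S ⊗[O] D ≃ₗ[O] (N →ₗ[O] S) :=
  (TensorProduct.congr (LinearEquiv.refl O S) e) ≪≫ₗ (TensorProduct.comm O S (Module.Dual O N)) ≪≫ₗ dualTensorHomEquiv O N S

theorem tau_tmul (e : D ≃ₗ[O] Module.Dual O N) (s : S) (x : D) (a : N) : tau e (s ⊗ₜ[O] x) a = e x a • s := rfl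

theorem tau_smul (e : D ≃ₗ[O] Module.Dual O N) (s : S) (z : S ⊗[O] D) (a : N) : tau e (s • z) a = s * tau e z a := by
  induction z using TensorProduct.induction_on with
  | zero => simp
  | add x y hx hy => rw [smul_add, map_add, map_add, LinearMap.add_apply, LinearMap.add_apply, hx, hy, mul_add]
  | tmul x y => rw [TensorProduct.smul_tmul', tau_tmul, tau_tmul, smul_eq_mul, mul_smul_comm]

/-- Divisibility is tested on values. -/
theorem exists_smul (e : D ≃ₗ[O] Module.Dual O N) (c : S) (hc : ∀ x, c * x = 0 → x = 0) (z : S ⊗[O] D)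
    (h : ∀ a, c ∣ tau e z a) : ∃ y, z = c • y := by
  choose g hg using h
  have hg' : ∀ a b, c * a = c * b → a = b := fun a b hab => sub_eq_zero.1 (hc _ (by rw [mul_sub, hab, sub_self]))
  let G : N →ₗ[O] S :=
    { toFun := g
      map_add' := fun a b => hg' _ _ (by rw [← hg, mul_add, ← hg, ← hg, map_add])
      map_smul' := fun r a => hg' _ _ (by
        rw [← hg, RingHom.id_apply, mul_smul_comm, ← hg, map_smul]) }
  refine ⟨(tau e).symm G, ?_⟩
  apply (tau (S := S) e).injective
  apply LinearMap.ext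
  intro a
  rw [tau_smul, LinearEquiv.apply_symm_apply]
  exact hg a

end tau

variable {O : Type u} [CommRing O] {A : Type u} [CommRing A] [Algebra O A]
    [Module.Finite O A] [Module.Projective O A] {H : Type u} [CommRing H] [HopfAlgebra O H] (e : H ≃ₗ[O] Module.Dual O A)

/-- `H ⊗ H ≃ Dual (A ⊗ A)`. -/
noncomputable def e2 : H ⊗[O] H ≃ₗ[O] Module.Dual O (A ⊗[O] A) :=
  TensorProduct.congr e e ≪≫ₗ CartDual.dualTensorEquiv O A A

theorem e2_tmul (x y : H) (a b : A) : e2 e (x ⊗ₜ y) (a ⊗ₜ b) = e x a * e y b := by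
  simp [e2]

variable (S : Type u) [CommRing S] [Algebra O S] (hcomul : ∀ (x : H) (a b : A), e2 e (Coalgebra.comul (R := O) x) (a ⊗ₜ b) = e x (a * b))

include hcomul in
theorem t2_mu (z : S ⊗[O] H) (a b : A) :
    tau (e2 e) (mu O H S z) (a ⊗ₜ b) = tau e z (a * b) := by
  induction z using TensorProduct.induction_on with
  | zero => simp
  | add x y hx hy => rw [map_add, map_add, map_add, LinearMap.add_apply, LinearMap.add_apply, hx, hy]
  | tmul s x =>
    have h1 : mu O H S (s ⊗ₜ x) = s ⊗ₜ (Coalgebra.comul (R := O) x) := rfl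
    rw [h1, tau_tmul, tau_tmul, hcomul]

theorem t2_p1_p2 (z z' : S ⊗[O] H) (a b : A) :
    tau (e2 e) (p1 O H S z * p2 O H S z') (a ⊗ₜ b) = tau e z a * tau e z' b := by
  induction z using TensorProduct.induction_on with
  | zero => simp
  | add x y hx hy => rw [map_add, add_mul, map_add, map_add, LinearMap.add_apply, LinearMap.add_apply, hx, hy, add_mul]
  | tmul s x =>
    induction z' using TensorProduct.induction_on with
    | zero => simp
    | add x y hx hy => rw [map_add, mul_add, map_add, map_add, LinearMap.add_apply, LinearMap.add_apply, hx, hy, mul_add]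
    | tmul s' x' =>
      have h1 : p1 O H S (s ⊗ₜ x) = s ⊗ₜ (x ⊗ₜ 1) := rfl
      have h2 : p2 O H S (s' ⊗ₜ x') = s' ⊗ₜ (1 ⊗ₜ x') := rfl
      rw [h1, h2, Algebra.TensorProduct.tmul_mul_tmul, Algebra.TensorProduct.tmul_mul_tmul, mul_one, one_mul, tau_tmul,
        tau_tmul, tau_tmul, e2_tmul]
      rw [smul_mul_smul_comm]

include hcomul in
/-- Group-like elements are multiplicative functionals. -/
theorem grouplike_iff (z : S ⊗[O] H) :
    p1 O H S z * p2 O H S z = mu O H S z ↔
      ∀ a b, tau e z (a * b) = tau e z a * tau e z b := by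
  constructor
  · intro h a b
    rw [← t2_mu e S hcomul, ← h, t2_p1_p2]
  · intro h
    apply (tau (S := S) (e2 e)).injective
    apply TensorProduct.ext'
    intro a b
    rw [t2_mu e S hcomul, t2_p1_p2, h]

variable (O H) in
/-- Pullback along `x ↦ (x, x⁻¹)`. -/
noncomputable def kap : S ⊗[O] (H ⊗[O] H) →ₐ[S] S ⊗[O] H :=
  Algebra.TensorProduct.map (AlgHom.id S S)
    (Algebra.TensorProduct.lift (AlgHom.id O _) (HopfAlgebra.antipodeAlgHom O H) (fun _ _ => .all ..))

theorem kap_p1 (z : S ⊗[O] H) : kap O H S (p1 O H S z) = z := by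
  have : (kap O H S).comp (p1 O H S) = AlgHom.id S _ := by
    apply Algebra.TensorProduct.ext
    · ext
    · ext h
      simp [kap, p1]
  exact DFunLike.congr_fun this z

variable (hcounit : ∀ (x : H), Coalgebra.counit (R := O) x = e x 1)

include hcounit in
theorem kap_mu (z : S ⊗[O] H) : kap O H S (mu O H S z) = algebraMap S _ (tau e z 1) := by
  induction z using TensorProduct.induction_on with
  | zero => simp
  | add x y hx hy => rw [map_add, map_add, map_add, LinearMap.add_apply, map_add, hx, hy]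
  | tmul s x =>
    have h1 : kap O H S (mu O H S (s ⊗ₜ x)) = s ⊗ₜ (algebraMap O H (Coalgebra.counit (R := O) x)) := by
      have h2 := HopfAlgebra.mul_antipode_lTensor_comul_apply (R := O) x
      have h3 : kap O H S (mu O H S (s ⊗ₜ x)) =
        s ⊗ₜ (Algebra.TensorProduct.lift (AlgHom.id O _) (HopfAlgebra.antipodeAlgHom O H) (fun _ _ => .all ..)
          (Coalgebra.comul (R := O) x)) := rfl
      rw [h3, ← h2]
      congr 1
      generalize (Coalgebra.comul (R := O) x) = y
      induction y using TensorProduct.induction_on with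
      | zero => simp
      | add x y hx hy => rw [map_add, map_add, map_add, hx, hy]
      | tmul x y => simp
    rw [h1, tau_tmul, hcounit]
    change s ⊗ₜ (algebraMap O H (e x 1)) = ((e x 1) • s) ⊗ₜ 1
    rw [Algebra.algebraMap_eq_smul_one, TensorProduct.tmul_smul, TensorProduct.smul_tmul']

section main

variable {S}
variable [IsDomain S] [IsNoetherianRing S] (ϖ : S) (hϖ0 : ϖ ≠ 0) (hϖ1 : ¬ IsUnit ϖ) [IsAdicComplete (Ideal.span {ϖ}) S]
  (p : ℕ) (hp : p.Prime) (w : ℕ) (u : Sˣ) (hu : (p : S) = u * ϖ ^ w) (n : ℕ)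
  (hkill : powConv O H (p ^ n) = powConv O H 0)

omit [IsDomain S] in
theorem isAdicComplete_tensor (M : Type u) [CommRing M] [Algebra O M] [Module.Finite O M] :
    IsAdicComplete (Ideal.span {algebraMap S (S ⊗[O] M) ϖ}) (S ⊗[O] M) := by
  have : IsAdicComplete ((Ideal.span {ϖ}).map (algebraMap S (S ⊗[O] M))) (S ⊗[O] M) := by
    rw [IsAdicComplete.map_algebraMap_iff]
    exact Groth.Agent.FormalA.AdicFin.isAdicComplete_of_finite (Ideal.span {ϖ})
  rwa [Ideal.map_span, Set.image_singleton] at this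

include hϖ0 in
omit [IsNoetherianRing S] [IsAdicComplete (Ideal.span {ϖ}) S] in
theorem regular (M : Type u) [CommRing M] [Algebra O M] [Module.Projective O M] (x : S ⊗[O] M)
    (h : algebraMap S (S ⊗[O] M) ϖ * x = 0) : x = 0 := by
  rw [← Algebra.smul_def] at h
  have : Module.IsTorsionFree S (S ⊗[O] M) := inferInstance
  exact (smul_eq_zero.1 h).resolve_left hϖ0

include hϖ0 hp hu hkill hcomul hcounit in
/-- Points congruent modulo `ϖ^t` are equal. -/
theorem unique {t : ℕ} (ht : w < (p - 1) * t) (χ χ' : A →ₐ[O] S) (h : ∀ a, ϖ ^ t ∣ χ a - χ' a) : χ = χ' := by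
  have : Module.Finite O H := Module.Finite.equiv e.symm
  have : Module.Projective O H := Module.Projective.of_equiv e.symm
  have i1 : IsAdicComplete (Ideal.span {algebraMap S (S ⊗[O] H) ϖ}) (S ⊗[O] H) := isAdicComplete_tensor ϖ H
  let z : S ⊗[O] H := (tau e).symm χ.toLinearMap
  let z' : S ⊗[O] H := (tau e).symm χ'.toLinearMap
  have hz : tau e z = χ.toLinearMap := LinearEquiv.apply_symm_apply _ _
  have hz' : tau e z' = χ'.toLinearMap := LinearEquiv.apply_symm_apply _ _
  have hg : p1 O H S z * p2 O H S z = mu O H S z := by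
    rw [grouplike_iff e S hcomul, hz]; exact fun a b => map_mul χ a b
  have hg' : p1 O H S z' * p2 O H S z' = mu O H S z' := by
    rw [grouplike_iff e S hcomul, hz']; exact fun a b => map_mul χ' a b
  have hu1 : IsUnit z := by
    have := congrArg (kap O H S) hg
    rw [map_mul, kap_p1, kap_mu e S hcounit, hz] at this
    refine IsUnit.of_mul_eq_one (kap O H S (p2 O H S z)) (this.trans ?_)
    change algebraMap S _ (χ 1) = 1
    rw [map_one, map_one]
  have hu2 : IsUnit z' := by
    have := congrArg (kap O H S) hg'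
    rw [map_mul, kap_p1, kap_mu e S hcounit, hz'] at this
    refine IsUnit.of_mul_eq_one (kap O H S (p2 O H S z')) (this.trans ?_)
    change algebraMap S _ (χ' 1) = 1
    rw [map_one, map_one]
  have hdvd : algebraMap S (S ⊗[O] H) ϖ ^ t ∣ z - z' := by
    obtain ⟨y, hy⟩ := exists_smul e (ϖ ^ t) (fun x hx => (mul_eq_zero.1 hx).resolve_left (pow_ne_zero _ hϖ0))
      (z - z') (fun a => by rw [map_sub, LinearMap.sub_apply, hz, hz']; exact h a)
    refine ⟨y, ?_⟩
    rw [hy, Algebra.smul_def, map_pow]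
  have := GroupLift.unique O H S ϖ p hp w u hu n hkill (regular ϖ hϖ0 H) ht z z' hu1 hu2 hg hg' hdvd
  have h2 : χ.toLinearMap = χ'.toLinearMap := by rw [← hz, ← hz', this]
  exact AlgHom.toLinearMap_injective h2

include hϖ0 hϖ1 hp hu hkill hcomul hcounit in
/-- Points modulo `ϖ^(t + n w)` lift modulo `ϖ^t`. -/
theorem exists_lift {t : ℕ} (ht : w < (p - 1) * t) (χ : A →ₗ[O] S) (h1 : ϖ ^ (t + n * w) ∣ χ 1 - 1)
    (hmul : ∀ a b, ϖ ^ (t + n * w) ∣ χ (a * b) - χ a * χ b) : ∃ χ' : A →ₐ[O] S, ∀ a, ϖ ^ t ∣ χ' a - χ a := by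
  have : Module.Finite O H := Module.Finite.equiv e.symm
  have : Module.Projective O H := Module.Projective.of_equiv e.symm
  have i1 : IsAdicComplete (Ideal.span {algebraMap S (S ⊗[O] H) ϖ}) (S ⊗[O] H) := isAdicComplete_tensor ϖ H
  have i2 : IsAdicComplete (Ideal.span {algebraMap S (S ⊗[O] (H ⊗[O] H)) ϖ}) (S ⊗[O] (H ⊗[O] H)) :=
    isAdicComplete_tensor ϖ (H ⊗[O] H)
  have hreg : ∀ k x, ϖ ^ k * x = 0 → x = 0 := fun k x hx => (mul_eq_zero.1 hx).resolve_left (pow_ne_zero _ hϖ0)
  have ht1 : 1 ≤ t := by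
    rcases Nat.eq_zero_or_pos t with h0 | h0
    · rw [h0, mul_zero] at ht; omega
    · exact h0
  let z : S ⊗[O] H := (tau e).symm χ
  have hz : tau e z = χ := LinearEquiv.apply_symm_apply _ _
  have hg : algebraMap S (S ⊗[O] (H ⊗[O] H)) ϖ ^ (t + n * w) ∣ mu O H S z - p1 O H S z * p2 O H S z := by
    obtain ⟨y, hy⟩ := exists_smul (e2 e) (ϖ ^ (t + n * w)) (hreg _) (mu O H S z - p1 O H S z * p2 O H S z) (fun a => by
      induction a using TensorProduct.induction_on with
      | zero => simp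
      | add x y hx hy => rw [map_add]; exact dvd_add hx hy
      | tmul a b =>
        rw [map_sub, LinearMap.sub_apply, t2_mu e S hcomul, t2_p1_p2, hz]
        exact hmul a b)
    refine ⟨y, hy.trans ?_⟩
    have h9 := Algebra.smul_def (ϖ ^ (t + n * w)) y
    rw [map_pow] at h9
    exact h9
  have hu1 : IsUnit z := by
    have h2 := dvd_map_sub S (kap O H S) ϖ _ _ _ hg
    rw [map_mul, kap_p1, kap_mu e S hcounit, hz] at h2
    have h3 : algebraMap S (S ⊗[O] H) ϖ ∣ z * kap O H S (p2 O H S z) - 1 := by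
      have h4 : algebraMap S (S ⊗[O] H) ϖ ∣ algebraMap S (S ⊗[O] H) ϖ ^ (t + n * w) := dvd_pow_self _ (by omega)
      have h5 : algebraMap S (S ⊗[O] H) ϖ ∣ algebraMap S (S ⊗[O] H) (χ 1) - 1 := by
        refine h4.trans ?_
        rw [← map_pow, ← (algebraMap S (S ⊗[O] H)).map_one, ← map_sub]
        exact map_dvd _ h1
      have h6 : z * kap O H S (p2 O H S z) - 1 = (algebraMap S (S ⊗[O] H) (χ 1) - 1) -
        (algebraMap S (S ⊗[O] H) (χ 1) - z * kap O H S (p2 O H S z)) := by ring
      rw [h6]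
      exact dvd_sub h5 (h4.trans h2)
    exact isUnit_of_mul_isUnit_left (Root.isUnit_of_sub_one_dvd _ _ h3)
  obtain ⟨z', hz'1, hz'2, hz'3⟩ := GroupLift.exists_lift O H S ϖ p hp w u hu n hkill (regular ϖ hϖ0 _) ht z hu1 hg
  rw [grouplike_iff e S hcomul] at hz'3
  let χ' : A →ₗ[O] S := tau e z'
  have hdvd : ∀ a, ϖ ^ t ∣ χ' a - χ a := by
    intro a
    obtain ⟨y, hy⟩ := hz'2
    have h7 : z' - z = (ϖ ^ t) • y := by rw [hy, Algebra.smul_def, map_pow]
    have h8 : χ' a - χ a = tau e (z' - z) a := by rw [map_sub, LinearMap.sub_apply, hz]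
    rw [h8, h7, tau_smul]
    exact Dvd.intro _ rfl
  have hone : χ' 1 = 1 := by
    have h9 : χ' 1 * χ' 1 = χ' 1 := by
      have := hz'3 1 1
      rw [mul_one] at this
      exact this.symm
    rcases mul_eq_zero.1 (show χ' 1 * (χ' 1 - 1) = 0 by rw [mul_sub, h9, mul_one, sub_self]) with h10 | h10
    · exfalso
      apply hϖ1
      have h11 : ϖ ∣ χ' 1 - χ 1 := (dvd_pow_self _ (by omega)).trans (hdvd 1)
      have h12 : ϖ ∣ χ 1 - 1 := (dvd_pow_self _ (by omega)).trans h1
      have h13 : ϖ ∣ (1 : S) := by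
        have : (1 : S) = χ' 1 - (χ' 1 - χ 1) - (χ 1 - 1) := by ring
        rw [this, h10]
        exact dvd_sub (dvd_sub (dvd_zero _) (by rw [← h10]; exact h11)) h12
      exact isUnit_of_dvd_one h13
    · exact sub_eq_zero.1 h10
  exact ⟨AlgHom.ofLinearMap χ' hone hz'3, hdvd⟩

end main

section dual

variable (O : Type u) [CommRing O] (A : Type u) [CommRing A] [HopfAlgebra O A] [Coalgebra.IsCocomm O A]
    [Module.Finite O A] [Module.Projective O A] {S : Type u} [CommRing S] [Algebra O S]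
  [IsDomain S] [IsNoetherianRing S] (ϖ : S) (hϖ0 : ϖ ≠ 0) (hϖ1 : ¬ IsUnit ϖ) [IsAdicComplete (Ideal.span {ϖ}) S]
  (p : ℕ) (hp : p.Prime) (w : ℕ) (u : Sˣ) (hu : (p : S) = u * ϖ ^ w) (n : ℕ)
  (hkill : powConv O A (p ^ n) = (Algebra.ofId O A).comp (Bialgebra.counitAlgHom O A))

include hkill in
theorem kill_dual : powConv O (CartDual.D O A) (p ^ n) = powConv O (CartDual.D O A) 0 := by
  apply AlgHom.ext
  intro x
  apply WithConv.ofConv_injective
  apply LinearMap.ext
  intro a
  change (powConv O (CartDual.D O A) (p ^ n) x) a = (powConv O (CartDual.D O A) 0 x) a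
  rw [K956.DualEig.powConv_dual, K956.DualEig.powConv_dual, hkill]
  rfl

theorem e2_comul (x : CartDual.D O A) (a b : A) :
    e2 (H := CartDual.D O A) (CartDual.toDual O A) (Coalgebra.comul (R := O) x) (a ⊗ₜ b) = CartDual.toDual O A x (a * b) :=
  CartDual.ev₂_coalgebra_comul_tmul O A x a b

include hϖ0 hp hu hkill in
theorem unique_points {t : ℕ} (ht : w < (p - 1) * t) (χ χ' : A →ₐ[O] S) (h : ∀ a, ϖ ^ t ∣ χ a - χ' a) : χ = χ' :=
  unique (H := CartDual.D O A) (CartDual.toDual O A) (e2_comul O A) (fun _ => rfl) ϖ hϖ0 p hp w u hu n (kill_dual O A p n hkill) ht χ χ' h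

include hϖ0 hϖ1 hp hu hkill in
theorem exists_point_lift {t : ℕ} (ht : w < (p - 1) * t) (χ : A →ₗ[O] S) (h1 : ϖ ^ (t + n * w) ∣ χ 1 - 1)
    (hmul : ∀ a b, ϖ ^ (t + n * w) ∣ χ (a * b) - χ a * χ b) : ∃ χ' : A →ₐ[O] S, ∀ a, ϖ ^ t ∣ χ' a - χ a :=
  exists_lift (H := CartDual.D O A) (CartDual.toDual O A) (e2_comul O A) (fun _ => rfl) ϖ hϖ0 hϖ1 p hp w u hu n
    (kill_dual O A p n hkill) ht χ h1 hmul

end dual

end K774.HopfPoints
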