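import Groth.Agent.Font.K774.Val
import Mathlib.NumberTheory.RamificationInertia.Galois
import Mathlib.RingTheory.DedekindDomain.Different

/-!
# Totally ramified extensions of discrete valuation rings and the inertia group
-/

set_option autoImplicit false
set_option linter.unusedSectionVars false
universe u v

open IsDiscreteValuationRing Polynomial IsLocalRing

namespace K774.Inertia

theorem irreducible_of_addVal {R : Type*} [CommRing R] [IsDomain R] [IsDiscreteValuationRing R] {x : R}
    (hx : addVal R x = 1) : Irreducible x := by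
  obtain ⟨π, hπ⟩ := exists_irreducible R
  have h0 : x ≠ 0 := by
    rintro rfl
    rw [addVal_zero] at hx
    exact absurd hx (by simp)
  obtain ⟨n, u, rfl⟩ := eq_unit_mul_pow_irreducible h0 hπ
  rw [addVal_def' u hπ n] at hx
  have : n = 1 := by exact_mod_cast hx
  rw [this, pow_one, irreducible_units_mul]
  exact hπ

section one

variable {R BL : Type u} [CommRing R] [IsDomain R] [IsDiscreteValuationRing R] [CommRing BL] [IsDomain BL]
  [IsDiscreteValuationRing BL] [Algebra R BL] [Module.Finite R BL] [FaithfulSMul R BL] [IsLocalHom (algebraMap R BL)]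

omit [Module.Finite R BL] in
theorem addVal_eq_ramificationIdx (ϖ : R) (hϖ : Irreducible ϖ) :
    addVal BL (algebraMap R BL ϖ) = ((maximalIdeal BL).ramificationIdx R : ℕ) := by
  have h0 : algebraMap R BL ϖ ≠ 0 := by
    rw [Ne, map_eq_zero_iff _ (FaithfulSMul.algebraMap_injective R BL)]
    exact hϖ.ne_zero
  obtain ⟨e, he⟩ := Val.exists_addVal_eq h0
  have h1 := Val.ramificationIdx'_eq R BL ϖ hϖ e he
  have h2 : (maximalIdeal R).ramificationIdx' (maximalIdeal BL) = (maximalIdeal BL).ramificationIdx R :=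
    Ideal.ramificationIdx'_eq_ramificationIdx _ _ (IsDiscreteValuationRing.not_a_field R)
  rw [he, ← h2, h1]

theorem exists_sub_mem (h : (maximalIdeal BL).inertiaDeg R = 1) (x : BL) :
    ∃ r : R, x - algebraMap R BL r ∈ maximalIdeal BL := by
  rw [Ideal.inertiaDeg_eq_of_isMaximal (maximalIdeal R) (maximalIdeal BL)] at h
  let _ : Field (R ⧸ maximalIdeal R) := Ideal.Quotient.field _
  let _ : Field (BL ⧸ maximalIdeal BL) := Ideal.Quotient.field _
  have h1 := (finrank_eq_one_iff_of_nonzero' (K := R ⧸ maximalIdeal R) (1 : BL ⧸ maximalIdeal BL) one_ne_zero).1 h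
    (Ideal.Quotient.mk _ x)
  obtain ⟨c, hc⟩ := h1
  obtain ⟨r, rfl⟩ := Ideal.Quotient.mk_surjective c
  refine ⟨r, ?_⟩
  rw [← Ideal.Quotient.eq_zero_iff_mem, map_sub, ← hc, sub_eq_zero, Algebra.smul_def, mul_one]
  rfl

theorem adjoin_eq_top (hres : ∀ x : BL, ∃ r : R, x - algebraMap R BL r ∈ maximalIdeal BL) (π : BL)
    (hπ : Irreducible π) : Algebra.adjoin R {π} = ⊤ := by
  have hstep : ∀ (k : ℕ) (x : BL), ∃ y ∈ Algebra.adjoin R {π}, ∃ z, x = y + π ^ k * z := by
    intro k
    induction k with
    | zero => intro x; exact ⟨0, zero_mem _, x, by ring⟩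
    | succ k ih =>
      intro x
      obtain ⟨y, hy, z, hz⟩ := ih x
      obtain ⟨r, hr⟩ := hres z
      rw [hπ.maximalIdeal_eq, Ideal.mem_span_singleton] at hr
      obtain ⟨w, hw⟩ := hr
      refine ⟨y + π ^ k * algebraMap R BL r, add_mem hy (mul_mem (pow_mem (Algebra.self_mem_adjoin_singleton R π) _)
        (Subalgebra.algebraMap_mem _ _)), w, ?_⟩
      rw [hz, eq_add_of_sub_eq hw]; ring
  obtain ⟨ϖ, hϖ⟩ := exists_irreducible R
  have h0 : algebraMap R BL ϖ ≠ 0 := by
    rw [Ne, map_eq_zero_iff _ (FaithfulSMul.algebraMap_injective R BL)]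
    exact hϖ.ne_zero
  obtain ⟨e, u, hu⟩ := eq_unit_mul_pow_irreducible h0 hπ
  have hN : (⊤ : Submodule R BL) ≤ Subalgebra.toSubmodule (Algebra.adjoin R {π}) := by
    refine Submodule.le_of_le_smul_of_le_jacobson_bot (I := maximalIdeal R) (Module.Finite.fg_top)
      (by rw [IsLocalRing.jacobson_eq_maximalIdeal _ bot_ne_top]) ?_
    intro x _
    obtain ⟨y, hy, z, hz⟩ := hstep e x
    refine Submodule.mem_sup.2 ⟨y, hy, π ^ e * z, ?_, hz.symm⟩
    have h2 : π ^ e * z = ϖ • (((u⁻¹ : BLˣ) : BL) * z) := by
      rw [Algebra.smul_def, hu]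
      have : (u : BL) * ((u⁻¹ : BLˣ) : BL) = 1 := Units.mul_inv u
      linear_combination (-(π ^ e * z)) * this
    rw [h2]
    exact Submodule.smul_mem_smul (by rw [hϖ.maximalIdeal_eq]; exact Ideal.mem_span_singleton_self _) trivial
  rw [eq_top_iff]
  intro x _
  exact hN (Submodule.mem_top (x := x))

variable {H : Type v} [Group H] [Fintype H] [MulSemiringAction H BL] [IsGaloisGroup H R BL]

theorem smul_ne (π : BL) (hπ : Algebra.adjoin R {π} = ⊤) (σ : H) (hσ : σ ≠ 1) : σ • π ≠ π := by
  have := IsGaloisGroup.commutes (G := H) (A := R) (B := BL)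
  have hf := IsGaloisGroup.faithful (G := H) (A := R) (B := BL)
  intro h
  apply hσ
  have h1 : MulSemiringAction.toAlgHom R BL σ = AlgHom.id R BL := by
    apply AlgHom.ext_of_adjoin_eq_top hπ
    rintro x rfl
    exact h
  apply hf.eq_of_smul_eq_smul
  intro b
  rw [one_smul]
  exact DFunLike.congr_fun h1 b

theorem injective_smul (π : BL) (hπ : Algebra.adjoin R {π} = ⊤) : Function.Injective (fun σ : H => σ • π) := by
  intro σ τ h
  by_contra hne
  have h1 : τ⁻¹ * σ ≠ 1 := fun h2 => hne (inv_mul_eq_one.1 h2).symm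
  apply smul_ne (R := R) π hπ (τ⁻¹ * σ) h1
  have h : σ • π = τ • π := h
  rw [mul_smul, h, inv_smul_smul]

/-- The minimal polynomial of a uniformizer. -/
theorem exists_poly (π : BL) :
    ∃ P : R[X], P.Monic ∧ P.map (algebraMap R BL) = ∏ σ : H, (X - C (σ • π)) := by
  have := IsGaloisGroup.isInvariant (G := H) (A := R) (B := BL)
  obtain ⟨P, hP, -, hPm⟩ := (Polynomial.lifts_and_degree_eq_and_monic
    (Algebra.IsInvariant.charpoly_mem_lifts R BL H π)
    (MulSemiringAction.monic_charpoly H π))
  exact ⟨P, hPm, hP⟩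

theorem dvd_of_aeval_eq_zero (π : BL) (hπ : Algebra.adjoin R {π} = ⊤) (P : R[X]) (hPm : P.Monic)
    (hP : P.map (algebraMap R BL) = ∏ σ : H, (X - C (σ • π))) (Q : R[X]) (hQ : aeval π Q = 0) : P ∣ Q := by
  have hinj := FaithfulSMul.algebraMap_injective R BL
  have hcomm := IsGaloisGroup.commutes (G := H) (A := R) (B := BL)
  rw [← Polynomial.modByMonic_eq_zero_iff_dvd hPm]
  have hdeg : (P.map (algebraMap R BL)).natDegree = Fintype.card H := by
    rw [hP, Polynomial.natDegree_prod_of_monic _ _ (fun σ _ => monic_X_sub_C _)]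
    simp
  have hPπ : aeval π P = 0 := by
    rw [aeval_def, ← eval_map, hP, eval_prod]
    exact Finset.prod_eq_zero (Finset.mem_univ (1 : H)) (by simp)
  have hr : aeval π (Q %ₘ P) = 0 := by
    rw [Polynomial.aeval_modByMonic_eq_self_of_root hPπ, hQ]
  rw [← Polynomial.map_eq_zero_iff hinj]
  refine Polynomial.eq_zero_of_natDegree_lt_card_of_eval_eq_zero _ (injective_smul (R := R) (H := H) π hπ) (fun σ => ?_) ?_
  · have h1 := congrArg (MulSemiringAction.toAlgHom R BL σ) hr
    rw [map_zero, ← aeval_algHom_apply] at h1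
    rw [eval_map, ← aeval_def]
    exact h1
  · rw [← hdeg, hPm.natDegree_map, Polynomial.natDegree_map_eq_of_injective hinj]
    apply Polynomial.natDegree_modByMonic_lt _ hPm
    rintro rfl
    rw [Polynomial.map_one, Polynomial.natDegree_one] at hdeg
    exact Fintype.card_ne_zero hdeg.symm

theorem exists_lift (π : BL) (hπ : Algebra.adjoin R {π} = ⊤) (P : R[X]) (hPm : P.Monic)
    (hP : P.map (algebraMap R BL) = ∏ σ : H, (X - C (σ • π))) (T : Type*) [CommRing T] [Algebra R T] (b : T)
    (hb : aeval b P = 0) : Nonempty (BL →ₐ[R] T) := by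
  have hPπ : aeval π P = 0 := by
    rw [aeval_def, ← eval_map, hP, eval_prod]
    exact Finset.prod_eq_zero (Finset.mem_univ (1 : H)) (by simp)
  have hsurj : Function.Surjective (aeval (R := R) π) := by
    rw [← AlgHom.range_eq_top, ← Algebra.adjoin_singleton_eq_range_aeval, hπ]
  refine ⟨AlgHom.liftOfSurjective (aeval (R := R) π) hsurj (aeval b) ?_⟩
  intro Q hQ
  obtain ⟨q, hq⟩ := dvd_of_aeval_eq_zero (H := H) π hπ P hPm hP Q hQ
  rw [RingHom.mem_ker, hq]
  change aeval b (P * q) = 0
  rw [map_mul, hb, zero_mul]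

theorem minpoly_eq (π : BL) (hπ : Algebra.adjoin R {π} = ⊤) (P : R[X]) (hPm : P.Monic)
    (hP : P.map (algebraMap R BL) = ∏ σ : H, (X - C (σ • π))) : minpoly R π = P := by
  have hint : IsIntegral R π := Algebra.IsIntegral.isIntegral π
  have hPπ : aeval π P = 0 := by
    rw [aeval_def, ← eval_map, hP, eval_prod]
    exact Finset.prod_eq_zero (Finset.mem_univ (1 : H)) (by simp)
  have h1 : P ∣ minpoly R π := dvd_of_aeval_eq_zero (H := H) π hπ P hPm hP _ (minpoly.aeval R π)
  have h2 : minpoly R π ∣ P := minpoly.isIntegrallyClosed_dvd hint hPπ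
  exact Polynomial.eq_of_monic_of_associated (minpoly.monic hint) hPm (associated_of_dvd_dvd h2 h1)

/-- The different of a totally ramified extension. -/
theorem different_eq (K L : Type u) [Field K] [Field L] [Algebra R K] [IsFractionRing R K] [Algebra K L] [Algebra R L]
    [IsScalarTower R K L] [Algebra BL L] [IsScalarTower R BL L] [IsIntegralClosure BL R L] [FiniteDimensional K L]
    [Algebra.IsSeparable K L]
    (π : BL) (hπ : Algebra.adjoin R {π} = ⊤) (P : R[X]) (hPm : P.Monic)
    (hP : P.map (algebraMap R BL) = ∏ σ : H, (X - C (σ • π))) :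
    differentIdeal R BL = Ideal.span {aeval π (derivative P)} := by
  have hadj : Algebra.adjoin K {algebraMap BL L π} = ⊤ := by
    have h1 : (Algebra.adjoin K {algebraMap BL L π}).toSubring ≥ (algebraMap BL L).range := by
      rintro _ ⟨x, rfl⟩
      have hx : x ∈ Algebra.adjoin R {π} := by rw [hπ]; trivial
      have h2 : (IsScalarTower.toAlgHom R BL L) x ∈ (Algebra.adjoin R {π}).map (IsScalarTower.toAlgHom R BL L) := ⟨x, hx, rfl⟩
      rw [AlgHom.map_adjoin, Set.image_singleton] at h2
      have h3 : Algebra.adjoin R {algebraMap BL L π} ≤ (Algebra.adjoin K {algebraMap BL L π}).restrictScalars R :=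
        Algebra.adjoin_le (Algebra.subset_adjoin)
      exact h3 h2
    rw [eq_top_iff]
    intro x _
    obtain ⟨m, hm⟩ := IsIntegral.exists_multiple_integral_of_isLocalization (nonZeroDivisors R) x
        (Algebra.IsIntegral.isIntegral (R := K) x)
    obtain ⟨b, hb⟩ : ∃ b, algebraMap BL L b = m • x := IsIntegralClosure.isIntegral_iff.mp hm
    have hm0 : algebraMap R K m ≠ 0 := by
      rw [Ne, map_eq_zero_iff _ (IsFractionRing.injective R K)]
      exact nonZeroDivisors.coe_ne_zero m
    have h2 : x = (algebraMap R K m)⁻¹ • algebraMap BL L b := by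
      rw [hb, Submonoid.smul_def, ← algebraMap_smul K (m : R) x, smul_smul, inv_mul_cancel₀ hm0, one_smul]
    rw [h2]
    exact Subalgebra.smul_mem _ (h1 ⟨b, rfl⟩) _
  have h1 := conductor_mul_differentIdeal R K L π hadj
  rw [conductor_eq_top_of_adjoin_eq_top hπ, Ideal.top_mul, minpoly_eq (H := H) π hπ P hPm hP] at h1
  exact h1

end one

theorem perfectField_residueField (O : Type u) [CommRing O] [IsLocalRing O] [PerfectField (ResidueField O)] :
    PerfectField (maximalIdeal O).ResidueField :=
  PerfectField.of_ringEquiv (K := ResidueField O)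
    (RingEquiv.ofBijective (algebraMap (O ⧸ maximalIdeal O) (maximalIdeal O).ResidueField)
      (Ideal.bijective_algebraMap_quotient_residueField _))

section two

variable {O R BL : Type u} [CommRing O] [IsDomain O] [IsDiscreteValuationRing O] [PerfectField (ResidueField O)]
  [CommRing R] [IsDomain R] [IsDiscreteValuationRing R] [PerfectField (ResidueField R)] [CommRing BL] [IsDomain BL]
  [IsDiscreteValuationRing BL] [Algebra O R] [Algebra R BL] [Algebra O BL] [IsScalarTower O R BL] [Module.Finite O R]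
  [Module.Finite R BL] [Module.Finite O BL] [FaithfulSMul O R] [FaithfulSMul R BL] [FaithfulSMul O BL]
  [IsLocalHom (algebraMap O R)] [IsLocalHom (algebraMap R BL)] [IsLocalHom (algebraMap O BL)]
  {G : Type v} [Group G] [Finite G] [MulSemiringAction G BL] [IsGaloisGroup G O BL]
  (I : Subgroup G) (hI : I = (maximalIdeal BL).inertia G) [IsGaloisGroup I R BL]

include hI in
variable (O R) in
theorem main : (maximalIdeal BL).inertiaDeg R = 1 ∧ (maximalIdeal BL).ramificationIdx R = Nat.card I ∧
    (maximalIdeal BL).ramificationIdx O = Nat.card I ∧ (maximalIdeal R).ramificationIdx O = 1 := by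
  have := perfectField_residueField O
  have := perfectField_residueField R
  have hI' : (maximalIdeal BL).inertia I = ⊤ := by
    rw [eq_top_iff]
    rintro ⟨σ, hσ⟩ _
    rw [hI] at hσ
    exact hσ
  have hflat : Module.Flat R BL := inferInstance
  have hflat2 : Module.Flat O BL := inferInstance
  have h1 : Nat.card I = (maximalIdeal BL).ramificationIdx R := by
    have h := Ideal.card_inertia_eq_ramificationIdxIn (G := I) (maximalIdeal R) (maximalIdeal BL)
    rw [hI', Ideal.ramificationIdxIn_eq_ramificationIdx (maximalIdeal R) (maximalIdeal BL) I] at h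
    rw [← h]
    exact (Nat.card_congr (Subgroup.topEquiv (G := I)).toEquiv).symm
  have h2 : Nat.card I = (maximalIdeal BL).ramificationIdx O := by
    have h := Ideal.card_inertia_eq_ramificationIdxIn (G := G) (maximalIdeal O) (maximalIdeal BL)
    rw [Ideal.ramificationIdxIn_eq_ramificationIdx (maximalIdeal O) (maximalIdeal BL) G, ← hI] at h
    exact h
  have h3 := Ideal.ramificationIdx_tower (R := O) (maximalIdeal R) (maximalIdeal BL)
  have hpos : 0 < Nat.card I := Nat.card_pos
  have h4 : (maximalIdeal R).ramificationIdx O = 1 := by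
    rw [← h1, ← h2] at h3
    exact Nat.eq_of_mul_eq_mul_right hpos (by omega)
  have h5 : (maximalIdeal BL).inertiaDeg R = 1 := by
    have h := Ideal.ncard_primesOver_mul_card_inertia_mul_finrank (G := I) (maximalIdeal R) (maximalIdeal BL)
    rw [hI', Nat.card_congr (Subgroup.topEquiv (G := I)).toEquiv] at h
    have h6 : ((maximalIdeal R).primesOver BL).ncard = 1 := by
      rw [Set.ncard_eq_one]
      refine ⟨maximalIdeal BL, ?_⟩
      ext Q
      constructor
      · rintro ⟨hQ1, hQ2⟩
        have : Q.IsMaximal := Ideal.IsMaximal.of_liesOver_isMaximal Q (maximalIdeal R)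
        exact IsLocalRing.eq_maximalIdeal this
      · rintro rfl
        exact ⟨inferInstance, inferInstance⟩
    rw [h6, one_mul] at h
    exact Nat.eq_of_mul_eq_mul_left hpos (by omega)
  exact ⟨h5, h1.symm, h2.symm, h4⟩

omit [PerfectField (ResidueField R)] in
theorem different_eq_top [CharZero O] (h : (maximalIdeal R).ramificationIdx O = 1) : differentIdeal O R = ⊤ := by
  obtain ⟨ϖ, hϖ⟩ := exists_irreducible O
  have h1 := addVal_eq_ramificationIdx (BL := R) ϖ hϖ
  rw [h] at h1
  have h2 : Irreducible (algebraMap O R ϖ) := by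
    exact irreducible_of_addVal (by exact_mod_cast h1)
  have hmap : maximalIdeal R * ⊤ = Ideal.map (algebraMap O R) (maximalIdeal O) := by
    rw [Ideal.mul_top, hϖ.maximalIdeal_eq, Ideal.map_span, Set.image_singleton, h2.maximalIdeal_eq]
  have hsep : Algebra.IsSeparable (O ⧸ maximalIdeal O) (R ⧸ maximalIdeal R) := by
    let _ : Field (O ⧸ maximalIdeal O) := Ideal.Quotient.field _
    let _ : Field (R ⧸ maximalIdeal R) := Ideal.Quotient.field _
    have : PerfectField (O ⧸ maximalIdeal O) := ‹PerfectField (ResidueField O)›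
    have : Module.Finite (O ⧸ maximalIdeal O) (R ⧸ maximalIdeal R) :=
      Module.Finite.of_restrictScalars_finite O _ _
    exact Algebra.IsAlgebraic.isSeparable_of_perfectField
  have h3 := not_dvd_differentIdeal_of_isCoprime_of_isSeparable O (maximalIdeal R) ⊤ (by rw [← Ideal.one_eq_top]; exact isCoprime_one_right) hmap
  by_contra hne
  apply h3
  rw [Ideal.dvd_iff_le]
  exact IsLocalRing.le_maximalIdeal hne

include hI in
variable (O) in
/-- The different in terms of the inertia group. -/
theorem different_eq_pow [CharZero O] [CharZero R] (K L : Type u) [Field K] [Field L] [Algebra R K] [IsFractionRing R K]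
    [Algebra K L] [Algebra R L]
    [IsScalarTower R K L] [Algebra BL L] [IsScalarTower R BL L] [IsIntegralClosure BL R L] [FiniteDimensional K L]
    (π : BL) (hπ : Irreducible π) [Fintype I] [DecidableEq I] (i : I → ℕ)
    (hi : ∀ σ : I, σ ≠ 1 → addVal BL (σ • π - π) = i σ) :
    differentIdeal O BL = maximalIdeal BL ^ (∑ σ ∈ Finset.univ.erase (1 : I), i σ) := by
  obtain ⟨hm1, -, -, hm2⟩ := main O R I hI
  have hadj : Algebra.adjoin R {π} = ⊤ := adjoin_eq_top (fun x => exists_sub_mem hm1 x) π hπ
  obtain ⟨P, hPm, hP⟩ := exists_poly (R := R) (BL := BL) (H := I) π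
  have : CharZero K := charZero_of_injective_algebraMap (IsFractionRing.injective R K)
  have h1 : differentIdeal R BL = Ideal.span {aeval π (derivative P)} :=
    different_eq (H := I) K L π hadj P hPm hP
  have h2 : differentIdeal O R = ⊤ := different_eq_top hm2
  have h3 := differentIdeal_eq_differentIdeal_mul_differentIdeal O R BL
  rw [h2, Ideal.map_top, Ideal.mul_top, h1] at h3
  rw [h3, Val.maximalIdeal_pow_eq_span _ π hπ, Ideal.span_singleton_eq_span_singleton]
  have h4 : aeval π (derivative P) = ∏ σ ∈ Finset.univ.erase (1 : I), (π - σ • π) := by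
    rw [aeval_def, ← eval_map, ← derivative_map, hP, ← Finset.mul_prod_erase Finset.univ _ (Finset.mem_univ (1 : I)),
      derivative_mul, eval_add, eval_mul, eval_mul, one_smul]
    simp [eval_prod]
  have h5 : addVal BL (aeval π (derivative P)) = (∑ σ ∈ Finset.univ.erase (1 : I), i σ : ℕ) := by
    rw [h4, Val.addVal_prod]
    push_cast
    refine Finset.sum_congr rfl fun σ hσ => ?_
    rw [← hi σ (Finset.ne_of_mem_erase hσ), ← AddValuation.map_neg, neg_sub]
  have h6 : addVal BL (π ^ (∑ σ ∈ Finset.univ.erase (1 : I), i σ)) = (∑ σ ∈ Finset.univ.erase (1 : I), i σ : ℕ) :=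
    hπ.addVal_pow _
  apply associated_of_dvd_dvd
  · rw [← addVal_le_iff_dvd, h5, h6]
  · rw [← addVal_le_iff_dvd, h5, h6]

end two

end K774.Inertia
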