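import Groth.Agent.Font.K774.Val
import Mathlib.FieldTheory.IntermediateField.Adjoin.Basic

/-!
# Points of a finite algebra with Fontaine's lifting property
-/

set_option autoImplicit false
universe u v

open IsDiscreteValuationRing IsLocalRing

namespace K774.Points

/-- Fontaine's lifting property. -/
def Lifting (O A : Type u) [CommRing O] [CommRing A] [Algebra O A] (p va eK : ℕ) : Prop :=
  ∀ (S : Type u) [CommRing S] [IsDomain S] [IsDiscreteValuationRing S] [IsAdicComplete (maximalIdeal S) S] [Algebra O S]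
    [Module.Finite O S] [FaithfulSMul O S]
    (ϖ : O) (_ : Irreducible ϖ) (eS : ℕ) (_ : addVal S (algebraMap O S ϖ) = eS) (t : ℕ) (_ : eK * eS < (p - 1) * t),
    (∀ χ χ' : A →ₐ[O] S, (∀ a, χ a - χ' a ∈ maximalIdeal S ^ t) → χ = χ') ∧
    (∀ ψ : A →ₐ[O] S ⧸ maximalIdeal S ^ (t + va * eS), ∃ χ : A →ₐ[O] S,
      ∀ a s, Ideal.Quotient.mk _ s = ψ a → s - χ a ∈ maximalIdeal S ^ t)

theorem isUnit_of_mk {S : Type u} [CommRing S] [IsLocalRing S] {k : ℕ} (hk : 1 ≤ k) (c : S)
    (hc : IsUnit (Ideal.Quotient.mk (maximalIdeal S ^ k) c)) : IsUnit c := by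
  obtain ⟨d, hd⟩ := hc.exists_right_inv
  obtain ⟨d, rfl⟩ := Ideal.Quotient.mk_surjective d
  by_contra h
  have h1 : c ∈ maximalIdeal S := h
  rw [← map_mul, ← map_one (Ideal.Quotient.mk (maximalIdeal S ^ k)), Ideal.Quotient.eq] at hd
  have h2 : c * d - 1 ∈ maximalIdeal S := Ideal.pow_le_self (by omega) hd
  have h3 : (1 : S) ∈ maximalIdeal S := by
    have := Ideal.sub_mem _ (Ideal.mul_mem_right d _ h1) h2
    rwa [sub_sub_cancel] at this
  exact (Ideal.ne_top_iff_one _).1 (maximalIdeal.isMaximal S).ne_top h3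

section

variable {O BL S : Type u} [CommRing O] [CommRing BL] [IsDomain BL] [IsDiscreteValuationRing BL]
  [CommRing S] [IsDomain S] [IsDiscreteValuationRing S] [Algebra O BL] [Algebra O S]
  (ϖ : O) (e : ℕ) (he : addVal BL (algebraMap O BL ϖ) = e) (e' : ℕ) (he' : addVal S (algebraMap O S ϖ) = e')
  (he'1 : 1 ≤ e') (k : ℕ) (hk : e' < k) (f : BL →ₐ[O] S ⧸ maximalIdeal S ^ k)

include he he' he'1 hk in
theorem exists_nβ : ∃ nβ : ℕ, e * nβ = e' ∧ ∀ (x : BL) (j : ℕ) (s : S) (t : ℕ), t ≤ k → s ∈ maximalIdeal S ^ t →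
    Ideal.Quotient.mk _ s = f x → addVal BL x = j → t ≤ j * nβ := by
  obtain ⟨π, hπ⟩ := exists_irreducible BL
  obtain ⟨β, hβ⟩ := Ideal.Quotient.mk_surjective (f π)
  have key : ∀ (x : BL) (j : ℕ), addVal BL x = j → ∃ c : S, IsUnit c ∧ f x = Ideal.Quotient.mk _ (c * β ^ j) := by
    intro x j hx
    have hx0 : x ≠ 0 := by
      rintro rfl
      rw [addVal_zero] at hx
      exact ENat.top_ne_natCast _ hx
    obtain ⟨n, u, rfl⟩ := eq_unit_mul_pow_irreducible hx0 hπ
    rw [addVal_def' u hπ n] at hx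
    have hn : n = j := by exact_mod_cast hx
    subst hn
    obtain ⟨c, hc⟩ := Ideal.Quotient.mk_surjective (f u)
    refine ⟨c, isUnit_of_mk (k := k) (by omega) c ?_, ?_⟩
    · rw [hc]; exact u.isUnit.map f
    · rw [map_mul, map_pow, map_mul, map_pow, hc, hβ]
  have hval : ∀ (c : S), IsUnit c → ∀ n : ℕ, addVal S (c * β ^ n) = n * addVal S β := by
    intro c hc n
    rw [addVal_mul, addVal_pow, addVal_eq_zero_iff.2 hc, zero_add, nsmul_eq_mul]
  obtain ⟨c, hc, hcϖ⟩ := key _ e he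
  have h1 : algebraMap O S ϖ - c * β ^ e ∈ maximalIdeal S ^ k := by
    rw [← Ideal.Quotient.eq, ← hcϖ, AlgHom.commutes]
    rfl
  have h2 : addVal S (c * β ^ e) = e' := by
    rw [Val.mem_maximalIdeal_pow_iff] at h1
    have h3 : addVal S (algebraMap O S ϖ) < addVal S (algebraMap O S ϖ - c * β ^ e) := by
      rw [he']
      refine lt_of_lt_of_le ?_ h1
      exact_mod_cast hk
    have h4 := AddValuation.map_sub_eq_of_lt_left (addVal S) h3
    rw [sub_sub_cancel, he'] at h4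
    exact h4
  rw [hval c hc] at h2
  have hβ0 : β ≠ 0 := by
    rintro rfl
    rw [addVal_zero] at h2
    rcases Nat.eq_zero_or_pos e with h0 | h0
    · rw [h0, Nat.cast_zero, zero_mul] at h2
      have : e' = 0 := by exact_mod_cast h2.symm
      omega
    · rw [ENat.mul_top (by exact_mod_cast h0.ne')] at h2
      exact ENat.top_ne_natCast _ h2
  obtain ⟨nβ, hnβ⟩ := Val.exists_addVal_eq hβ0
  refine ⟨nβ, ?_, ?_⟩
  · rw [hnβ] at h2
    exact_mod_cast h2
  · intro x j s t ht hs hsx hxj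
    obtain ⟨c', hc', hcx⟩ := key x j hxj
    rw [hcx, Ideal.Quotient.eq] at hsx
    have h5 : c' * β ^ j ∈ maximalIdeal S ^ t := by
      have := Ideal.sub_mem _ hs (Ideal.pow_le_pow_right ht hsx)
      rwa [sub_sub_cancel] at this
    rw [Val.mem_maximalIdeal_pow_iff, hval c' hc', hnβ] at h5
    exact_mod_cast h5

end

/-- All points are defined over the fraction field of `S`. -/
theorem points {O A : Type u} [CommRing O] [CommRing A] [Algebra O A] [Module.Finite O A] {p va eK : ℕ}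
    (H : Lifting O A p va eK) (BL S Ω : Type u) [CommRing BL] [IsDomain BL] [IsDiscreteValuationRing BL]
    [IsAdicComplete (maximalIdeal BL) BL] [Algebra O BL] [Module.Finite O BL] [FaithfulSMul O BL]
    [CommRing S] [IsDomain S] [IsDiscreteValuationRing S]
    [IsAdicComplete (maximalIdeal S) S] [Algebra O S] [Module.Finite O S] [FaithfulSMul O S]
    [Field Ω] [Algebra O Ω] (ιL : BL →ₐ[O] Ω) (hιL : Function.Injective ιL) (ιS : S →ₐ[O] Ω) (hιS : Function.Injective ιS)
    (hpts : ∀ (χ : A →ₐ[O] Ω) (a : A), ∃ b, ιL b = χ a)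
    (ϖ : O) (hϖ : Irreducible ϖ) (e : ℕ) (he : addVal BL (algebraMap O BL ϖ) = e) (e' : ℕ)
    (he' : addVal S (algebraMap O S ϖ) = e') (he'1 : 1 ≤ e') (k : ℕ) (hk : e' < k)
    (hk2 : (p - 1) * (va * e') + eK * e' < (p - 1) * k)
    (f : BL →ₐ[O] S ⧸ maximalIdeal S ^ k) (χ : A →ₐ[O] Ω) (a : A) : ∃ s, ιS s = χ a := by
  have hk3 : va * e' < k := by
    by_contra h
    have := Nat.mul_le_mul_left (p - 1) (not_lt.1 h)
    omega
  obtain ⟨t, rfl⟩ : ∃ t, k = t + va * e' := ⟨k - va * e', by omega⟩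
  have ht : eK * e' < (p - 1) * t := by
    rw [mul_add] at hk2
    omega
  obtain ⟨nβ, hn1, hn2⟩ := exists_nβ ϖ e he e' he' he'1 _ hk f
  have hn0 : 1 ≤ nβ := by
    rcases Nat.eq_zero_or_pos nβ with h | h
    · rw [h, mul_zero] at hn1; omega
    · exact h
  have hex : ∃ s, t ≤ s * nβ := ⟨t, Nat.le_mul_of_pos_right t hn0⟩
  classical
  obtain ⟨s, hs1, hs2⟩ : ∃ s, t ≤ s * nβ ∧ ∀ j, t ≤ j * nβ → s ≤ j :=
    ⟨Nat.find hex, Nat.find_spec hex, fun j hj => Nat.find_min' hex hj⟩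
  have hs : eK * e < (p - 1) * s := by
    have h1 : eK * e * nβ < (p - 1) * s * nβ := by
      calc eK * e * nβ = eK * e' := by rw [mul_assoc, hn1]
        _ < (p - 1) * t := ht
        _ ≤ (p - 1) * (s * nβ) := Nat.mul_le_mul_left _ hs1
        _ = (p - 1) * s * nβ := by rw [mul_assoc]
    exact lt_of_mul_lt_mul_right h1 (Nat.zero_le _)
  have HS := (H S ϖ hϖ e' he' t ht).2
  have HL := (H BL ϖ hϖ e he s hs).1
  choose Φ hΦ using fun (χ : A →ₐ[O] BL) => HS (f.comp χ)
  have hΦinj : Function.Injective Φ := by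
    intro χ₁ χ₂ h12
    apply HL
    intro a
    rw [Val.mem_maximalIdeal_pow_iff]
    by_cases hx0 : χ₁ a - χ₂ a = 0
    · rw [hx0, addVal_zero]; exact le_top
    obtain ⟨j, hj⟩ := Val.exists_addVal_eq hx0
    rw [hj]
    have : s ≤ j := by
      apply hs2
      obtain ⟨s₁, hs₁⟩ := Ideal.Quotient.mk_surjective (f (χ₁ a))
      obtain ⟨s₂, hs₂⟩ := Ideal.Quotient.mk_surjective (f (χ₂ a))
      refine hn2 _ j (s₁ - s₂) t (by omega) ?_ (by rw [map_sub, map_sub, hs₁, hs₂]) hj
      have h1 := hΦ χ₁ a s₁ hs₁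
      have h2 := hΦ χ₂ a s₂ hs₂
      rw [h12] at h1
      have := Ideal.sub_mem _ h1 h2
      rwa [sub_sub_sub_cancel_right] at this
    exact_mod_cast this
  let g : (A →ₐ[O] BL) → (A →ₐ[O] Ω) := fun χ => ιS.comp (Φ χ)
  have hg : Function.Injective g := by
    intro χ₁ χ₂ h
    apply hΦinj
    apply AlgHom.ext
    intro a
    exact hιS (DFunLike.congr_fun h a)
  have hfin : Finite (A →ₐ[O] BL) := Finite.of_injective g hg
  have hsurj : Function.Surjective (fun χ : A →ₐ[O] BL => ιL.comp χ) := by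
    intro χ
    choose c hc using hpts χ
    let χ' : A →ₐ[O] BL := AlgHom.ofLinearMap
      { toFun := c
        map_add' := fun a b => hιL (by rw [map_add, hc, hc, hc, map_add])
        map_smul' := fun r a => hιL (by rw [hc, map_smul, RingHom.id_apply, map_smul, hc]) }
      (hιL (by
        change ιL (c 1) = _
        rw [hc, map_one, map_one]))
      (fun a b => hιL (by
        change ιL (c (a * b)) = ιL (c a * c b)
        rw [map_mul, hc, hc, hc, map_mul]))
    exact ⟨χ', AlgHom.ext hc⟩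
  have hbij : Function.Bijective g :=
    hg.bijective_of_nat_card_le (Nat.card_le_card_of_surjective _ hsurj)
  obtain ⟨χ', hχ'⟩ := hbij.2 χ
  exact ⟨Φ χ' a, DFunLike.congr_fun hχ' a⟩

end K774.Points
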