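import Groth.Agent.FormalA.AdicFin
import Mathlib.RingTheory.AdicCompletion.Topology
import Mathlib.RingTheory.AdicCompletion.Basic
import Mathlib.Algebra.Polynomial.Eval.Defs
import Mathlib.Algebra.Polynomial.Identities
import Mathlib.Data.Nat.Choose.Dvd

/-!
# The `p`-th power map on `1 + ϖ^t M`

For a commutative ring `M` complete for the powers of a nonzerodivisor `ϖ` with `p = u ϖ^w`, `u` a unit, and `(p-1) t > w`, the
`p`-th power map is a bijection from `1 + ϖ^t M` to `1 + ϖ^(t+w) M`.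
-/

set_option autoImplicit false
universe u

open Polynomial

namespace K774.Root

theorem isAdicComplete_of_pow {M : Type*} [CommRing M] (I : Ideal M) (n : ℕ) (hn : 0 < n) (h : IsAdicComplete (I ^ n) M) :
    IsAdicComplete I M := by
  let : WithIdeal M := ⟨I⟩
  have hI : IsAdic I := rfl
  rw [hI.isAdicComplete_iff]
  exact ((is_ideal_adic_pow hI hn).isAdicComplete_iff).1 h

theorem exists_fixed {M : Type*} [CommRing M] (ϖ : M) [IsAdicComplete (Ideal.span {ϖ}) M] (A : M) (H : M[X]) :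
    ∃ z : M, z = A - ϖ * H.eval z := by
  let F : M → M := fun z => A - ϖ * H.eval z
  have hF : ∀ (k : ℕ) (z z' : M), z - z' ∈ Ideal.span {ϖ} ^ k → F z - F z' ∈ Ideal.span {ϖ} ^ (k + 1) := by
    intro k z z' h
    have h1 : F z - F z' = ϖ * (H.eval z' - H.eval z) := by simp only [F]; ring
    rw [h1, pow_succ']
    refine Ideal.mul_mem_mul (Ideal.mem_span_singleton_self ϖ) ?_
    obtain ⟨c, hc⟩ := Polynomial.sub_dvd_eval_sub z' z H
    rw [hc]
    refine Ideal.mul_mem_right _ _ ?_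
    rw [← neg_sub]
    exact neg_mem h
  let x : ℕ → M := fun n => F^[n] 0
  have hx : ∀ n, x (n + 1) = F (x n) := fun n => Function.iterate_succ_apply' F n 0
  have h1 : ∀ n, x (n + 1) - x n ∈ Ideal.span {ϖ} ^ n := by
    intro n
    induction n with
    | zero => simp
    | succ n ih =>
      have := hF n _ _ ih
      rw [← hx, ← hx] at this
      exact this
  have h2 : ∀ m n, m ≤ n → x n - x m ∈ Ideal.span {ϖ} ^ m := by
    intro m n hmn
    induction n, hmn using Nat.le_induction with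
    | base => simp
    | succ n hmn ih =>
      have h3 := Ideal.pow_le_pow_right hmn (h1 n)
      have : x (n + 1) - x m = (x (n + 1) - x n) + (x n - x m) := by ring
      rw [this]
      exact add_mem h3 ih
  obtain ⟨L, hL⟩ := IsPrecomplete.prec (I := Ideal.span {ϖ}) (M := M) inferInstance (f := x) (by
    intro m n hmn
    rw [SModEq.sub_mem]
    have := neg_mem (h2 m n hmn)
    rw [neg_sub] at this
    simpa using this)
  have hL' : ∀ n, x n - L ∈ Ideal.span {ϖ} ^ n := by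
    intro n
    have := hL n
    rw [SModEq.sub_mem] at this
    simpa using this
  refine ⟨L, ?_⟩
  have key : ∀ n, L - F L ∈ Ideal.span {ϖ} ^ n := by
    intro n
    have e1 : L - F L = (x (n + 1) - F L) - (x (n + 1) - L) := by ring
    rw [e1, hx]
    refine sub_mem (Ideal.pow_le_pow_right (Nat.le_succ n) (hF n _ _ (hL' n))) ?_
    rw [← hx]
    exact Ideal.pow_le_pow_right (Nat.le_succ n) (hL' (n + 1))
  have := IsHausdorff.haus (I := Ideal.span {ϖ}) (M := M) inferInstance (L - F L) (fun n => by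
    rw [SModEq.zero]
    simpa using key n)
  exact sub_eq_zero.1 this

/-- `((1 + x)^p - 1 - p x - x^p) / (p x^2)`. -/
noncomputable def rp (M : Type*) [CommRing M] (p : ℕ) : M[X] :=
  ∑ k ∈ Finset.Ico 2 p, C ((p.choose k / p : ℕ) : M) * X ^ (k - 2)

theorem one_add_pow {M : Type*} [CommRing M] (p : ℕ) (hp : p.Prime) (x : M) :
    (1 + x) ^ p = 1 + p * x + p * x ^ 2 * (rp M p).eval x + x ^ p := by
  have h2 := hp.two_le
  rw [add_comm 1 x, add_pow]
  have e1 : Finset.range (p + 1) = insert 0 (insert 1 (insert p (Finset.Ico 2 p))) := by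
    ext k
    simp only [Finset.mem_range, Finset.mem_insert, Finset.mem_Ico]
    omega
  rw [e1, Finset.sum_insert, Finset.sum_insert, Finset.sum_insert]
  · have e2 : ∑ k ∈ Finset.Ico 2 p, x ^ k * 1 ^ (p - k) * (p.choose k : M) = p * x ^ 2 * (rp M p).eval x := by
      rw [rp, eval_finsetSum, Finset.mul_sum]
      refine Finset.sum_congr rfl fun k hk => ?_
      rw [Finset.mem_Ico] at hk
      have h3 : p ∣ p.choose k := hp.dvd_choose_self (by omega) hk.2
      obtain ⟨c, hc⟩ := h3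
      have h4 : p.choose k / p = c := by rw [hc]; exact Nat.mul_div_cancel_left c hp.pos
      rw [h4, eval_mul, eval_C, eval_pow, eval_X, hc]
      have h5 : x ^ k = x ^ 2 * x ^ (k - 2) := by rw [← pow_add]; congr 1; omega
      rw [h5]
      push_cast
      ring
    rw [e2]
    simp
    ring
  · simp
  · simp only [Finset.mem_insert, Finset.mem_Ico]; omega
  · simp only [Finset.mem_insert, Finset.mem_Ico]; omega

section

variable {M : Type*} [CommRing M] (ϖ : M) [IsAdicComplete (Ideal.span {ϖ}) M] (hreg : ∀ x, ϖ * x = 0 → x = 0) (p : ℕ)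
  (hp : p.Prime) (w : ℕ) (u : Mˣ) (hu : (p : M) = u * ϖ ^ w)

include hreg in
omit [IsAdicComplete (Ideal.span {ϖ}) M] in
theorem pow_cancel (n : ℕ) (x y : M) (h : ϖ ^ n * x = ϖ ^ n * y) : x = y := by
  induction n with
  | zero => simpa using h
  | succ n ih =>
    apply ih
    have : ϖ * (ϖ ^ n * x - ϖ ^ n * y) = 0 := by
      rw [mul_sub, ← mul_assoc, ← mul_assoc, ← pow_succ', h, sub_self]
    exact sub_eq_zero.1 (hreg _ this)

theorem isUnit_of_sub_one_dvd (c : M) (h : ϖ ∣ c - 1) : IsUnit c := by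
  have h1 := IsAdicComplete.le_jacobson_bot (Ideal.span {ϖ})
  obtain ⟨d, hd⟩ := h
  have h2 : ϖ * d ∈ (⊥ : Ideal M).jacobson := Ideal.mul_mem_right _ _ (h1 (Ideal.mem_span_singleton_self ϖ))
  have h3 := Ideal.mem_jacobson_bot.1 h2 1
  rw [mul_one, ← hd, sub_add_cancel] at h3
  exact h3

theorem eq_zero_of_forall_dvd (x : M) (h : ∀ n, ϖ ^ n ∣ x) : x = 0 := by
  refine IsHausdorff.haus (I := Ideal.span {ϖ}) (M := M) inferInstance x (fun n => ?_)
  rw [SModEq.zero]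
  have := Ideal.mem_span_singleton.2 (h n)
  rw [← Ideal.span_singleton_pow] at this
  simpa using this

include hreg hp hu in
theorem pow_eq_one {t : ℕ} (ht : w < (p - 1) * t) (c : M) (hc : ϖ ^ t ∣ c - 1) (h : c ^ p = 1) : c = 1 := by
  have key : ∀ s, t ≤ s → ϖ ^ s ∣ c - 1 := by
    intro s hs
    induction s, hs using Nat.le_induction with
    | base => exact hc
    | succ s hs ih =>
      obtain ⟨y, hy⟩ := ih
      have h2 : c = 1 + ϖ ^ s * y := by rw [← hy]; ring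
      have hs' : w < (p - 1) * s := lt_of_lt_of_le ht (Nat.mul_le_mul_left _ hs)
      have hs1 : 1 ≤ s := by
        rcases Nat.eq_zero_or_pos s with h0 | h0
        · rw [h0, mul_zero] at hs'; omega
        · exact h0
      have h3 := one_add_pow p hp (ϖ ^ s * y)
      rw [← h2, h, hu] at h3
      obtain ⟨j, hj⟩ : ∃ j, p * s = w + s + (j + 1) := by
        refine ⟨p * s - (w + s) - 1, ?_⟩
        have : p * s = (p - 1) * s + s := by
          obtain ⟨q, hq⟩ : ∃ q, p = q + 1 := ⟨p - 1, by have := hp.pos; omega⟩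
          rw [hq]; simp; ring
        omega
      obtain ⟨s', hs'⟩ : ∃ s', s = s' + 1 := ⟨s - 1, by omega⟩
      have h4 : ϖ ^ (w + s) * (u * y) = ϖ ^ (w + s) * (ϖ * (-(u * ϖ ^ s' * y ^ 2 * (rp M p).eval (ϖ ^ s * y)) - ϖ ^ j * y ^ p)) := by
        have h5 : (ϖ ^ s * y) ^ p = ϖ ^ (w + s) * (ϖ * (ϖ ^ j * y ^ p)) := by
          rw [mul_pow, ← pow_mul, mul_comm s p, hj, pow_add, pow_succ]; ring
        rw [h5] at h3
        have h6 : ϖ ^ s = ϖ * ϖ ^ s' := by rw [hs', pow_succ']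
        have h7 : (u : M) * ϖ ^ w * (ϖ ^ s * y) = ϖ ^ (w + s) * (u * y) := by rw [pow_add]; ring
        have h8 : (u : M) * ϖ ^ w * (ϖ ^ s * y) ^ 2 * (rp M p).eval (ϖ ^ s * y) =
            ϖ ^ (w + s) * (ϖ * (u * ϖ ^ s' * y ^ 2 * (rp M p).eval (ϖ ^ s * y))) := by
          have : (u : M) * ϖ ^ w * (ϖ ^ s * y) ^ 2 * (rp M p).eval (ϖ ^ s * y) =
            (ϖ ^ w * ϖ ^ s) * ϖ ^ s * (u * y ^ 2 * (rp M p).eval (ϖ ^ s * y)) := by ring
          rw [this, ← pow_add]
          conv_lhs => rw [show (ϖ ^ (w + s)) * ϖ ^ s = ϖ ^ (w + s) * (ϖ * ϖ ^ s') by rw [← h6]]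
          ring
        rw [h7, h8] at h3
        linear_combination -h3
      have h5 := pow_cancel ϖ hreg _ _ _ h4
      have h6 : ϖ ∣ y := by
        have : y = ϖ * (↑u⁻¹ * (-(u * ϖ ^ s' * y ^ 2 * (rp M p).eval (ϖ ^ s * y)) - ϖ ^ j * y ^ p)) := by
          rw [mul_left_comm, ← h5, Units.inv_mul_cancel_left]
        exact ⟨_, this⟩
      obtain ⟨y', hy'⟩ := h6
      refine ⟨y', ?_⟩
      rw [hy, hy', pow_succ]; ring
  have h0 : c - 1 = 0 := eq_zero_of_forall_dvd ϖ _ fun n => by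
    rcases le_total t n with h1 | h1
    · exact key n h1
    · exact (pow_dvd_pow ϖ h1).trans hc
  exact sub_eq_zero.1 h0

include hp hu in
theorem exists_root {t : ℕ} (ht : w < (p - 1) * t) (y : M) (hy : ϖ ^ (t + w) ∣ y - 1) : ∃ c, ϖ ^ t ∣ c - 1 ∧ c ^ p = y := by
  obtain ⟨y', hy'⟩ := hy
  have ht1 : 1 ≤ t := by
    rcases Nat.eq_zero_or_pos t with h0 | h0
    · rw [h0, mul_zero] at ht; omega
    · exact h0
  obtain ⟨j, hj⟩ : ∃ j, p * t = w + t + (j + 1) := by
    refine ⟨p * t - (w + t) - 1, ?_⟩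
    have : p * t = (p - 1) * t + t := by
      obtain ⟨q, hq⟩ : ∃ q, p = q + 1 := ⟨p - 1, by have := hp.pos; omega⟩
      rw [hq]; simp; ring
    omega
  obtain ⟨t', ht'⟩ : ∃ t', t = t' + 1 := ⟨t - 1, by omega⟩
  let H : M[X] := C (ϖ ^ t') * X ^ 2 * (rp M p).comp (C (ϖ ^ t) * X) + C (↑u⁻¹ * ϖ ^ j) * X ^ p
  obtain ⟨z, hz⟩ := exists_fixed ϖ (↑u⁻¹ * y') H
  refine ⟨1 + ϖ ^ t * z, ⟨z, by ring⟩, ?_⟩
  have h1 : H.eval z = ϖ ^ t' * z ^ 2 * (rp M p).eval (ϖ ^ t * z) + ↑u⁻¹ * ϖ ^ j * z ^ p := by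
    simp [H, eval_comp]
  have h2 : (u : M) * z = y' - ϖ * (u * ϖ ^ t' * z ^ 2 * (rp M p).eval (ϖ ^ t * z) + ϖ ^ j * z ^ p) := by
    conv_lhs => rw [hz, h1]
    have hu1 : (u : M) * ↑u⁻¹ = 1 := Units.mul_inv u
    linear_combination (y' - ϖ * ϖ ^ j * z ^ p) * hu1
  rw [one_add_pow p hp, hu]
  have h6 : ϖ ^ t = ϖ * ϖ ^ t' := by rw [ht', pow_succ']
  have h5 : (ϖ ^ t * z) ^ p = ϖ ^ (t + w) * (ϖ * (ϖ ^ j * z ^ p)) := by
    rw [mul_pow, ← pow_mul, mul_comm t p, hj, pow_add, pow_succ, add_comm w t]; ring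
  have h7 : (u : M) * ϖ ^ w * (ϖ ^ t * z) = ϖ ^ (t + w) * (u * z) := by rw [pow_add]; ring
  have h8 : (u : M) * ϖ ^ w * (ϖ ^ t * z) ^ 2 * (rp M p).eval (ϖ ^ t * z) =
      ϖ ^ (t + w) * (ϖ * (u * ϖ ^ t' * z ^ 2 * (rp M p).eval (ϖ ^ t * z))) := by
    have : (u : M) * ϖ ^ w * (ϖ ^ t * z) ^ 2 * (rp M p).eval (ϖ ^ t * z) =
      (ϖ ^ t * ϖ ^ w) * ϖ ^ t * (u * z ^ 2 * (rp M p).eval (ϖ ^ t * z)) := by ring
    rw [this, ← pow_add]
    conv_lhs => rw [show (ϖ ^ (t + w)) * ϖ ^ t = ϖ ^ (t + w) * (ϖ * ϖ ^ t') by rw [← h6]]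
    ring
  rw [h7, h8, h5, h2]
  linear_combination -hy'

include hreg hp hu in
theorem pow_pow_eq_one {t : ℕ} (ht : w < (p - 1) * t) (n : ℕ) (c : M) (hc : ϖ ^ t ∣ c - 1) (h : c ^ (p ^ n) = 1) : c = 1 := by
  induction n with
  | zero => simpa using h
  | succ n ih =>
    apply ih
    rw [pow_succ, pow_mul] at h
    refine pow_eq_one ϖ hreg p hp w u hu ht _ ?_ h
    obtain ⟨d, hd⟩ := sub_dvd_pow_sub_pow c 1 (p ^ n)
    rw [one_pow] at hd
    rw [hd]
    exact Dvd.dvd.mul_right hc d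

include hp hu in
theorem exists_pow_root {t : ℕ} (ht : w < (p - 1) * t) (n : ℕ) (y : M) (hy : ϖ ^ (t + n * w) ∣ y - 1) :
    ∃ c, ϖ ^ t ∣ c - 1 ∧ c ^ (p ^ n) = y := by
  induction n generalizing y with
  | zero => exact ⟨y, by simpa using hy, by simp⟩
  | succ n ih =>
    have h1 : w < (p - 1) * (t + n * w) := lt_of_lt_of_le ht (Nat.mul_le_mul_left _ (by omega))
    obtain ⟨c, hc, hc2⟩ := exists_root ϖ p hp w u hu h1 y (by
      have : t + (n + 1) * w = t + n * w + w := by ring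
      rw [← this]; exact hy)
    obtain ⟨d, hd, hd2⟩ := ih c hc
    exact ⟨d, hd, by rw [pow_succ, pow_mul, hd2, hc2]⟩

include hreg hp hu in
/-- Uniqueness of roots. -/
theorem pow_pow_inj {t : ℕ} (ht : w < (p - 1) * t) (n : ℕ) (a b : M) (ha : ϖ ^ t ∣ a - 1) (hb : ϖ ^ t ∣ b - 1)
    (h : a ^ (p ^ n) = b ^ (p ^ n)) : a = b := by
  have ht1 : 1 ≤ t := by
    rcases Nat.eq_zero_or_pos t with h0 | h0
    · rw [h0, mul_zero] at ht; omega
    · exact h0
  have hbu : IsUnit b := isUnit_of_sub_one_dvd ϖ b ((dvd_pow_self ϖ (by omega)).trans hb)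
  obtain ⟨b', rfl⟩ := hbu
  have h1 : a * ↑b'⁻¹ = 1 := by
    refine pow_pow_eq_one ϖ hreg p hp w u hu ht n _ ?_ ?_
    · have : a * (↑b'⁻¹ : M) - 1 = ((a - 1) - (b' - 1)) * ↑b'⁻¹ := by
        have := Units.mul_inv b'
        linear_combination this
      rw [this]
      exact Dvd.dvd.mul_right (dvd_sub ha hb) _
    · rw [mul_pow, h, ← mul_pow, Units.mul_inv, one_pow]
  calc a = a * ↑b'⁻¹ * b' := by rw [mul_assoc, Units.inv_mul, mul_one]
    _ = b' := by rw [h1, one_mul]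

end

end K774.Root
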