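import Groth.Agent.Font.K774.Inertia
import Groth.Agent.Font.K774.Points
import Groth.Agent.Font.K774.Core
import Groth.Agent.Font.K774.Root
import Groth.Agent.FormalA.AdicFin

/-!
# Fontaine's ramification bound
-/

set_option autoImplicit false
set_option linter.unusedSectionVars false
universe u v

open IsDiscreteValuationRing Polynomial IsLocalRing

namespace K774.Ram

/-- A finite local extension of a complete discrete valuation ring is complete. -/
theorem isAdicComplete (O S : Type u) [CommRing O] [IsDomain O] [IsDiscreteValuationRing O] [IsAdicComplete (maximalIdeal O) O]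
    [CommRing S] [IsDomain S] [IsDiscreteValuationRing S] [Algebra O S] [Module.Finite O S] [FaithfulSMul O S]
    [IsLocalHom (algebraMap O S)] : IsAdicComplete (maximalIdeal S) S := by
  have h1 : IsAdicComplete (maximalIdeal O) S := Groth.Agent.FormalA.AdicFin.isAdicComplete_of_finite (maximalIdeal O)
  rw [← IsAdicComplete.map_algebraMap_iff (S := S)] at h1
  obtain ⟨ϖ, hϖ⟩ := exists_irreducible O
  obtain ⟨π, hπ⟩ := exists_irreducible S
  have h0 : algebraMap O S ϖ ≠ 0 := by
    rw [Ne, map_eq_zero_iff _ (FaithfulSMul.algebraMap_injective O S)]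
    exact hϖ.ne_zero
  obtain ⟨n, u, hu⟩ := eq_unit_mul_pow_irreducible h0 hπ
  have hn : 0 < n := by
    rcases Nat.eq_zero_or_pos n with h | h
    · exfalso
      rw [h, pow_zero, mul_one] at hu
      apply hϖ.not_isUnit
      apply isUnit_of_map_unit (algebraMap O S)
      rw [hu]
      exact u.isUnit
    · exact h
  have h2 : (maximalIdeal O).map (algebraMap O S) = maximalIdeal S ^ n := by
    rw [Val.maximalIdeal_pow_eq_span n π hπ, hϖ.maximalIdeal_eq, Ideal.map_span, Set.image_singleton, hu,
      Ideal.span_singleton_eq_span_singleton]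
    exact (associated_unit_mul_left _ _ u.isUnit)
  rw [h2] at h1
  exact Root.isAdicComplete_of_pow _ n hn h1

section main

variable {O A : Type u} [CommRing O] [IsDomain O] [IsDiscreteValuationRing O] [IsAdicComplete (maximalIdeal O) O] [CharZero O]
  [CommRing A] [Algebra O A] [Module.Finite O A] {p va eK : ℕ} (hp : 2 ≤ p) (H : Points.Lifting O A p va eK)
  {Ω BL R K₀ : Type u} [Field Ω] [IsAlgClosed Ω] [Algebra O Ω]
  [CommRing BL] [IsDomain BL] [IsDiscreteValuationRing BL] [Algebra O BL] [Module.Finite O BL] [FaithfulSMul O BL]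
  [IsLocalHom (algebraMap O BL)]
  [CommRing R] [IsDomain R] [IsDiscreteValuationRing R] [HenselianLocalRing R] [CharZero R]
  [Algebra O R] [Module.Finite O R] [FaithfulSMul O R] [IsLocalHom (algebraMap O R)]
  [Algebra R BL] [IsScalarTower O R BL]
  [Field K₀] [Algebra R K₀] [IsFractionRing R K₀] [Algebra K₀ Ω] [Algebra R Ω] [IsScalarTower R K₀ Ω] [IsScalarTower O R Ω]
  (ι : BL →ₐ[R] Ω) (hι : Function.Injective ι)
  (hpts : ∀ (χ : A →ₐ[O] Ω) (a : A), ∃ b, ι b = χ a)
  (hgen : ∀ (F : IntermediateField K₀ Ω), (∀ (χ : A →ₐ[O] Ω) (a : A), χ a ∈ F) → ∀ b : BL, ι b ∈ F)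
  (ϖ : O) (hϖ : Irreducible ϖ)

include hp H hι hpts hgen hϖ in
theorem propP : Core.PropP R K₀ Ω BL ι (algebraMap O R ϖ) (va + eK / ((p : ℚ) - 1)) := by
  intro E _ _ k e' he' hk1 hk2 ⟨f⟩
  have : CharZero K₀ := charZero_of_injective_algebraMap (IsFractionRing.injective R K₀)
  obtain ⟨-, -, hfr, hfin, hloc, -⟩ := Groth.Agent.Etbc.H205.HensExt.exists_integralClosure R K₀ E
  let algOE : Algebra O (integralClosure R E) := ((algebraMap R (integralClosure R E)).comp (algebraMap O R)).toAlgebra
  have tow : IsScalarTower O R (integralClosure R E) := .of_algebraMap_eq' rfl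
  have hfinO : Module.Finite O (integralClosure R E) := Module.Finite.trans R _
  have hinjR : Function.Injective (algebraMap R (integralClosure R E)) := by
    have h : Function.Injective (algebraMap R E) := by
      rw [IsScalarTower.algebraMap_eq R K₀ E]
      exact (algebraMap K₀ E).injective.comp (IsFractionRing.injective R K₀)
    intro a b hab
    apply h
    exact congrArg (algebraMap (integralClosure R E) E) hab
  have hinjO : Function.Injective (algebraMap O (integralClosure R E)) :=
    hinjR.comp (FaithfulSMul.algebraMap_injective O R)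
  have hff : FaithfulSMul O (integralClosure R E) := (faithfulSMul_iff_algebraMap_injective O _).2 hinjO
  have hlocO : IsLocalHom (algebraMap O (integralClosure R E)) := by
    change IsLocalHom ((algebraMap R (integralClosure R E)).comp (algebraMap O R))
    infer_instance
  have hcE : IsAdicComplete (maximalIdeal (integralClosure R E)) (integralClosure R E) := isAdicComplete O _
  have hcBL : IsAdicComplete (maximalIdeal BL) BL := isAdicComplete O _
  let ιS : integralClosure R E →ₐ[O] Ω :=
    { toRingHom := (algebraMap E Ω).comp (algebraMap (integralClosure R E) E)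
      commutes' := fun r => by
        change ((algebraMap R E (algebraMap O R r) : E) : Ω) = algebraMap O Ω r
        rw [IsScalarTower.algebraMap_apply O R Ω]
        rfl }
  have hιS : Function.Injective ιS := (algebraMap E Ω).injective.comp Subtype.val_injective
  have h0 : algebraMap O BL ϖ ≠ 0 := by
    rw [Ne, map_eq_zero_iff _ (FaithfulSMul.algebraMap_injective O BL)]
    exact hϖ.ne_zero
  obtain ⟨e, he⟩ := Val.exists_addVal_eq h0
  have he'1 : 1 ≤ e' := by
    rcases Nat.eq_zero_or_pos e' with h | h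
    · exfalso
      rw [h, Nat.cast_zero, addVal_eq_zero_iff] at he'
      apply hϖ.not_isUnit
      exact isUnit_of_map_unit (algebraMap O (integralClosure R E)) _ he'
    · exact h
  have hp1 : (0 : ℚ) < (p : ℚ) - 1 := by
    have : (2 : ℚ) ≤ p := by exact_mod_cast hp
    linarith
  have hk : (p - 1) * (va * e') + eK * e' < (p - 1) * k := by
    have h1 : ((p : ℚ) - 1) * ((va + eK / ((p : ℚ) - 1)) * e') < ((p : ℚ) - 1) * k := mul_lt_mul_of_pos_left hk1 hp1
    have h2 : ((p : ℚ) - 1) * ((va + eK / ((p : ℚ) - 1)) * e') = ((p : ℚ) - 1) * (va * e') + eK * e' := by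
      field_simp
    rw [h2] at h1
    have h3 : (((p - 1 : ℕ) : ℚ)) = (p : ℚ) - 1 := by
      rw [Nat.cast_sub (by omega)]; simp
    rw [← h3] at h1
    exact_mod_cast h1
  have key := Points.points H BL (integralClosure R E) Ω (ι.restrictScalars O) hι ιS hιS hpts ϖ hϖ e he e' he' he'1 k hk2 hk
    (f.restrictScalars O)
  intro b
  refine hgen E (fun χ a => ?_) b
  obtain ⟨s, hs⟩ := key χ a
  rw [← hs]
  exact (algebraMap (integralClosure R E) E s).2

variable [PerfectField (ResidueField O)] [PerfectField (ResidueField R)] [Module.Finite R BL] [FaithfulSMul R BL]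
  [IsLocalHom (algebraMap R BL)] {L : Type u}
  [Field L] [Algebra K₀ L] [Algebra R L] [IsScalarTower R K₀ L] [Algebra BL L] [IsScalarTower R BL L]
  [IsIntegralClosure BL R L] [FiniteDimensional K₀ L]
  {G : Type u} [Group G] [Finite G] [MulSemiringAction G BL] [IsGaloisGroup G O BL] (I : Subgroup G)
  (hI : I = (maximalIdeal BL).inertia G) [IsGaloisGroup I R BL]

include L hp H hι hpts hgen hI in
variable (L K₀) in
theorem bound_aux (hB1 : I ≠ ⊥ → 1 ≤ va) :
    ∃ d : ℕ, differentIdeal O BL = maximalIdeal BL ^ d ∧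
      ((d = 0 ∧ ∀ σ : G, σ ≠ 1 → ∀ j : ℕ, (∀ x : BL, σ • x - x ∈ maximalIdeal BL ^ j) → j = 0) ∨
      ((d : ℚ) + 1 ≤ ((maximalIdeal BL).ramificationIdx O : ℚ) * (va + eK / ((p : ℚ) - 1)) ∧
        ∀ σ : G, σ ≠ 1 → ∀ j : ℕ, (∀ x : BL, σ • x - x ∈ maximalIdeal BL ^ j) →
          (j : ℚ) + d ≤ ((maximalIdeal BL).ramificationIdx O : ℚ) * (va + eK / ((p : ℚ) - 1)))) := by
  classical
  obtain ⟨ϖ, hϖ⟩ := exists_irreducible O
  obtain ⟨π, hπ⟩ := exists_irreducible BL
  obtain ⟨hm1, hm2, hm3, hm4⟩ := Inertia.main O R I hI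
  have hfI : Fintype I := Fintype.ofFinite _
  let i : I → ℕ := fun σ => (addVal BL (σ • π - π)).toNat
  have hadj : Algebra.adjoin R {π} = ⊤ := Inertia.adjoin_eq_top (fun x => Inertia.exists_sub_mem hm1 x) π hπ
  have hi : ∀ σ : I, σ ≠ 1 → addVal BL (σ • π - π) = i σ := by
    intro σ hσ
    have h1 : σ • π - π ≠ 0 := sub_ne_zero.2 (Inertia.smul_ne (R := R) π hadj σ hσ)
    obtain ⟨n, hn⟩ := Val.exists_addVal_eq h1
    simp only [i, hn, ENat.toNat_natCast]
  refine ⟨∑ σ ∈ Finset.univ.erase (1 : I), i σ, Inertia.different_eq_pow (R := R) O I hI K₀ L π hπ i hi, ?_⟩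
  by_cases hbot : I = ⊥
  · left
    constructor
    · apply Finset.sum_eq_zero
      intro σ hσ
      exfalso
      apply Finset.ne_of_mem_erase hσ
      have : (σ : G) ∈ (⊥ : Subgroup G) := (SetLike.ext_iff.1 hbot _).1 σ.2
      rw [Subtype.ext_iff]
      exact this
    · intro σ hσ j hj
      by_contra hj0
      apply hσ
      have : σ ∈ I := by
        rw [hI]
        intro x
        exact Ideal.pow_le_self hj0 (hj x)
      rw [hbot] at this
      exact this
  right
  have hva := hB1 hbot
  obtain ⟨P, hPm, hP⟩ := Inertia.exists_poly (R := R) (BL := BL) (H := I) π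
  have hcard : 2 ≤ Fintype.card I := by
    rw [← Nat.card_eq_fintype_card]
    exact Subgroup.one_lt_card_iff_ne_bot I |>.2 hbot
  have hne : (Finset.univ.erase (1 : I)).Nonempty := by
    rw [← Finset.card_pos, Finset.card_erase_of_mem (Finset.mem_univ _), Finset.card_univ]
    omega
  obtain ⟨σm, hσm, hmax⟩ := Finset.exists_max_image (Finset.univ.erase (1 : I)) i hne
  have hcomm := IsGaloisGroup.commutes (G := I) (A := R) (B := BL)
  let act : I →* (BL ≃ₐ[R] BL) := MulSemiringAction.toAlgAut I R BL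
  have hϖR : Irreducible (algebraMap O R ϖ) := by
    apply Inertia.irreducible_of_addVal
    rw [Inertia.addVal_eq_ramificationIdx ϖ hϖ, hm4]
    rfl
  have he : addVal BL (algebraMap R BL (algebraMap O R ϖ)) = (Fintype.card I : ℕ) := by
    rw [Inertia.addVal_eq_ramificationIdx _ hϖR, hm2, Nat.card_eq_fintype_card]
  have hpp := propP hp H ι hι hpts hgen ϖ hϖ
  have hp1 : (0 : ℚ) < (p : ℚ) - 1 := by
    have : (2 : ℚ) ≤ p := by exact_mod_cast hp
    linarith
  have hBpos : (1 : ℚ) ≤ va + eK / ((p : ℚ) - 1) := by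
    have h1 : (1 : ℚ) ≤ va := by exact_mod_cast hva
    have h2 : (0 : ℚ) ≤ eK / ((p : ℚ) - 1) := by positivity
    linarith
  have hU : ((i σm + ∑ τ ∈ Finset.univ.erase (1 : I), i τ : ℕ) : ℚ) ≤ (Fintype.card I : ℚ) * (va + eK / ((p : ℚ) - 1)) := by
    by_contra hlt
    rw [not_le] at hlt
    refine Core.perturb ι (algebraMap O R ϖ) hϖR π hπ (Fintype.card I) hcard he rfl act P hP
      (fun T _ _ b hb => Inertia.exists_lift (H := I) π hadj P hPm hP T b hb) _ hpp i hi σm (Finset.ne_of_mem_erase hσm)
      (fun τ hτ => hmax τ (Finset.mem_erase.2 ⟨hτ, Finset.mem_univ _⟩)) _ rfl ?_ hlt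
    have h1 : ((Fintype.card I : ℕ) : ℚ) < (i σm + ∑ τ ∈ Finset.univ.erase (1 : I), i τ : ℕ) := by
      refine lt_of_le_of_lt ?_ hlt
      have h3 : (0 : ℚ) ≤ (Fintype.card I : ℚ) := by positivity
      nlinarith
    exact_mod_cast h1
  have hram : ((maximalIdeal BL).ramificationIdx O : ℚ) = (Fintype.card I : ℚ) := by
    rw [hm3, Nat.card_eq_fintype_card]
  rw [hram]
  push_cast at hU
  constructor
  · have h1 : 1 ≤ i σm := by
      have h2 := σm.2
      have h3 : ∀ x : BL, (σm : G) • x - x ∈ maximalIdeal BL := (SetLike.ext_iff.1 hI _).1 h2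
      have h4 := h3 π
      rw [← pow_one (maximalIdeal BL), Val.mem_maximalIdeal_pow_iff] at h4
      have h5 := hi σm (Finset.ne_of_mem_erase hσm)
      change ((1 : ℕ) : ℕ∞) ≤ addVal BL (σm • π - π) at h4
      rw [h5] at h4
      exact_mod_cast h4
    have h1' : (1 : ℚ) ≤ i σm := by exact_mod_cast h1
    push_cast
    linarith
  · intro σ hσ j hj
    have h0 : j ≤ i σm := by
      rcases Nat.eq_zero_or_pos j with h | h
      · rw [h]; exact Nat.zero_le _
      have hσI : σ ∈ I := by
        rw [hI]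
        intro x
        exact Ideal.pow_le_self (by omega) (hj x)
      have h1 : (⟨σ, hσI⟩ : I) ≠ 1 := fun h => hσ (congrArg Subtype.val h)
      have h2 := hi ⟨σ, hσI⟩ h1
      have h3 := hj π
      rw [Val.mem_maximalIdeal_pow_iff] at h3
      change (j : ℕ∞) ≤ addVal BL ((⟨σ, hσI⟩ : I) • π - π) at h3
      rw [h2] at h3
      have h4 : j ≤ i ⟨σ, hσI⟩ := by exact_mod_cast h3
      exact h4.trans (hmax _ (Finset.mem_erase.2 ⟨h1, Finset.mem_univ _⟩))
    have h0' : (j : ℚ) ≤ i σm := by exact_mod_cast h0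
    push_cast
    linarith

end main

theorem bound_mid {O A : Type u} [CommRing O] [IsDomain O] [IsDiscreteValuationRing O] [IsAdicComplete (maximalIdeal O) O]
    [CharZero O] [PerfectField (ResidueField O)]
    [CommRing A] [Algebra O A] [Module.Finite O A] {p va eK : ℕ} (hp : 2 ≤ p) (H : Points.Lifting O A p va eK)
    {K L BL Ω : Type u} (R K₀ : Type u) [Field K] [Algebra O K] [IsFractionRing O K] [Field L] [Algebra K L] [Algebra O L] [IsScalarTower O K L]
    [FiniteDimensional K L]
    [Field Ω] [IsAlgClosed Ω] [Algebra O Ω] [Algebra L Ω] [IsScalarTower O L Ω] [Algebra K Ω] [IsScalarTower K L Ω]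
    [CommRing BL] [IsDomain BL] [IsDiscreteValuationRing BL] [Algebra O BL] [Module.Finite O BL] [Algebra BL L] [IsScalarTower O BL L]
    [IsIntegralClosure BL O L] [IsFractionRing BL L] [Module.IsTorsionFree O BL]
    [Field K₀] [Algebra K K₀] [Algebra O K₀] [Algebra K₀ L] [IsScalarTower O K K₀] [IsScalarTower K K₀ L] [IsScalarTower O K₀ L]
    [CommRing R] [IsDomain R] [IsDiscreteValuationRing R] [HenselianLocalRing R] [PerfectField (ResidueField R)] [Algebra O R]
    [Module.Finite O R] [Algebra R K₀] [IsScalarTower O R K₀] [IsIntegralClosure R O K₀] [IsFractionRing R K₀]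
    {G : Type u} [Group G] [Finite G] [MulSemiringAction G BL] [MulSemiringAction G L] [SMulDistribClass G BL L] [IsGaloisGroup G K L]
    (I : Subgroup G) (hI : I = (maximalIdeal BL).inertia G) [IsGaloisGroup I K₀ L]
    (hpts : ∀ (χ : A →ₐ[O] Ω) (a : A), ∃ b : BL, algebraMap L Ω (algebraMap BL L b) = χ a)
    (hgen : ∀ (F : IntermediateField K Ω), (∀ (χ : A →ₐ[O] Ω) (a : A), χ a ∈ F) → ∀ b : L, algebraMap L Ω b ∈ F)
    (hB1 : I ≠ ⊥ → 1 ≤ va) :
    ∃ d : ℕ, differentIdeal O BL = maximalIdeal BL ^ d ∧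
      ((d = 0 ∧ ∀ σ : G, σ ≠ 1 → ∀ j : ℕ, (∀ x : BL, σ • x - x ∈ maximalIdeal BL ^ j) → j = 0) ∨
      ((d : ℚ) + 1 ≤ ((maximalIdeal BL).ramificationIdx O : ℚ) * (va + eK / ((p : ℚ) - 1)) ∧
        ∀ σ : G, σ ≠ 1 → ∀ j : ℕ, (∀ x : BL, σ • x - x ∈ maximalIdeal BL ^ j) →
          (j : ℚ) + d ≤ ((maximalIdeal BL).ramificationIdx O : ℚ) * (va + eK / ((p : ℚ) - 1)))) := by
  let algRL : Algebra R L := ((algebraMap K₀ L).comp (algebraMap R K₀)).toAlgebra
  have tRL : IsScalarTower R K₀ L := .of_algebraMap_eq' rfl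
  have tORL : IsScalarTower O R L := .of_algebraMap_eq fun x => by
    rw [IsScalarTower.algebraMap_apply R K₀ L, ← IsScalarTower.algebraMap_apply O R K₀, ← IsScalarTower.algebraMap_apply O K₀ L]
  have hintR : Algebra.IsIntegral O R := inferInstance
  let algRBL : Algebra R BL := (IsIntegralClosure.lift O BL L (S := R)).toRingHom.toAlgebra
  have t1 : IsScalarTower O R BL :=
    .of_algebraMap_eq' (AlgHom.comp_algebraMap (IsIntegralClosure.lift O BL L (S := R))).symm
  have t2 : IsScalarTower R BL L :=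
    .of_algebraMap_eq fun x => (IsIntegralClosure.algebraMap_lift O BL L x).symm
  have h4 : IsIntegralClosure BL R L := IsIntegralClosure.tower_top (R := O)
  have h5 : Module.Finite R BL := Module.Finite.of_restrictScalars_finite O _ _
  have hinjOL : Function.Injective (algebraMap O L) := by
    rw [IsScalarTower.algebraMap_eq O K L]
    exact (algebraMap K L).injective.comp (IsFractionRing.injective O K)
  have hinjRL : Function.Injective (algebraMap R L) := by
    rw [IsScalarTower.algebraMap_eq R K₀ L]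
    exact (algebraMap K₀ L).injective.comp (IsFractionRing.injective R K₀)
  have hinj1 : Function.Injective (algebraMap O BL) := by
    rw [IsScalarTower.algebraMap_eq O BL L] at hinjOL
    exact Function.Injective.of_comp (f := algebraMap BL L) hinjOL
  have hinj3 : Function.Injective (algebraMap R BL) := by
    rw [IsScalarTower.algebraMap_eq R BL L] at hinjRL
    exact Function.Injective.of_comp (f := algebraMap BL L) hinjRL
  have hinj2 : Function.Injective (algebraMap O R) := by
    rw [IsScalarTower.algebraMap_eq O R L] at hinjOL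
    exact Function.Injective.of_comp (f := algebraMap R L) hinjOL
  have f1 : FaithfulSMul O BL := (faithfulSMul_iff_algebraMap_injective _ _).2 hinj1
  have f2 : FaithfulSMul O R := (faithfulSMul_iff_algebraMap_injective _ _).2 hinj2
  have f3 : FaithfulSMul R BL := (faithfulSMul_iff_algebraMap_injective _ _).2 hinj3
  have hc2 : CharZero R := charZero_of_injective_algebraMap hinj2
  have hGG : IsGaloisGroup G O BL := IsGaloisGroup.of_isFractionRing G O BL K L
  have hGG2 : IsGaloisGroup I R BL :=
    IsGaloisGroup.of_isFractionRing _ _ _ K₀ L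
  let algK₀Ω : Algebra K₀ Ω := ((algebraMap L Ω).comp (algebraMap K₀ L)).toAlgebra
  have tK₀Ω : IsScalarTower K₀ L Ω := .of_algebraMap_eq' rfl
  let algRΩ : Algebra R Ω := ((algebraMap L Ω).comp (algebraMap R L)).toAlgebra
  have tRΩ : IsScalarTower R L Ω := .of_algebraMap_eq' rfl
  have t4 : IsScalarTower R K₀ Ω := .of_algebraMap_eq' rfl
  have t5 : IsScalarTower O R Ω := .of_algebraMap_eq fun x => by
    rw [IsScalarTower.algebraMap_apply R L Ω, ← IsScalarTower.algebraMap_apply O R L, ← IsScalarTower.algebraMap_apply O L Ω]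
  have tKΩ : IsScalarTower K K₀ Ω := .of_algebraMap_eq fun x => by
    rw [IsScalarTower.algebraMap_apply K₀ L Ω, ← IsScalarTower.algebraMap_apply K K₀ L, ← IsScalarTower.algebraMap_apply K L Ω]
  have hfd : FiniteDimensional K₀ L := FiniteDimensional.right K K₀ L
  let ι : BL →ₐ[R] Ω :=
    { toRingHom := (algebraMap L Ω).comp (algebraMap BL L)
      commutes' := fun r => by
        change algebraMap L Ω (algebraMap BL L (algebraMap R BL r)) = _
        rw [← IsScalarTower.algebraMap_apply R BL L, ← IsScalarTower.algebraMap_apply R L Ω] }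
  have hι : Function.Injective ι := (algebraMap L Ω).injective.comp (IsFractionRing.injective BL L)
  refine bound_aux (L := L) (K₀ := K₀) hp H ι hι hpts (fun F hF b => ?_) I hI hB1
  exact hgen (F.restrictScalars K) hF (algebraMap BL L b)

end K774.Ram
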