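import Mathlib.RingTheory.DiscreteValuationRing.Basic
import Mathlib.NumberTheory.RamificationInertia.Basic
import Mathlib.RingTheory.RamificationInertia.Ramification
import Mathlib.RingTheory.Polynomial.Basic
import Mathlib.RingTheory.LocalRing.ResidueField.Basic

/-!
# Valuations of discrete valuation rings and extensions
-/

set_option autoImplicit false
universe u v

open IsDiscreteValuationRing

namespace K774.Val

section

variable {B : Type u} [CommRing B] [IsDomain B] [IsDiscreteValuationRing B] {C : Type v} [CommRing C] [IsDomain C]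
  [IsDiscreteValuationRing C]

/-- The valuation on an extension. -/
theorem addVal_map (φ : B →+* C) (ϖ : B) (hϖ : Irreducible ϖ) (e : ℕ) (he0 : e ≠ 0) (he : addVal C (φ ϖ) = e) (x : B) :
    addVal C (φ x) = e * addVal B x := by
  by_cases hx : x = 0
  · rw [hx, map_zero, addVal_zero, addVal_zero, ENat.mul_top]
    exact_mod_cast he0
  · obtain ⟨n, u, rfl⟩ := eq_unit_mul_pow_irreducible hx hϖ
    rw [map_mul, map_pow, addVal_mul, addVal_pow, he, addVal_def' u hϖ n]
    have : addVal C (φ u) = 0 := addVal_eq_zero_of_unit (u.map (φ : B →* C))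
    rw [this, zero_add, nsmul_eq_mul, mul_comm]

theorem mem_maximalIdeal_pow_iff (k : ℕ) (x : B) : x ∈ IsLocalRing.maximalIdeal B ^ k ↔ (k : ℕ∞) ≤ addVal B x := by
  obtain ⟨ϖ, hϖ⟩ := exists_irreducible B
  rw [hϖ.maximalIdeal_eq, Ideal.span_singleton_pow, Ideal.mem_span_singleton, ← addVal_le_iff_dvd, hϖ.addVal_pow]

theorem maximalIdeal_pow_eq_span (k : ℕ) (ϖ : B) (hϖ : Irreducible ϖ) : IsLocalRing.maximalIdeal B ^ k = Ideal.span {ϖ ^ k} := by
  rw [hϖ.maximalIdeal_eq, Ideal.span_singleton_pow]

theorem exists_addVal_eq {x : B} (hx : x ≠ 0) : ∃ n : ℕ, addVal B x = n := by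
  have : addVal B x ≠ ⊤ := by
    rw [Ne, addVal_eq_top_iff]; exact hx
  exact ⟨(addVal B x).toNat, (ENat.natCast_toNat this).symm⟩

theorem addVal_prod {ι : Type*} (s : Finset ι) (f : ι → B) : addVal B (∏ i ∈ s, f i) = ∑ i ∈ s, addVal B (f i) := by
  classical
  induction s using Finset.induction_on with
  | empty => simp
  | insert i s hi ih => rw [Finset.prod_insert hi, Finset.sum_insert hi, addVal_mul, ih]

/-- Isomorphisms preserve the valuation. -/
theorem addVal_equiv (σ : B ≃+* C) (x : B) : addVal C (σ x) = addVal B x := by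
  obtain ⟨ϖ, hϖ⟩ := exists_irreducible B
  have h1 : Irreducible (σ ϖ) := (MulEquiv.irreducible_iff σ).2 hϖ
  have := addVal_map (σ : B →+* C) ϖ hϖ 1 one_ne_zero (by
    rw [RingEquiv.coe_toRingHom, addVal_uniformizer h1]; rfl) x
  simpa using this

end

section

variable (R : Type u) [CommRing R] [IsDomain R] [IsDiscreteValuationRing R] (C : Type u) [CommRing C] [IsDomain C]
  [IsDiscreteValuationRing C] [Algebra R C]

theorem ramificationIdx'_eq (ϖ : R) (hϖ : Irreducible ϖ) (e : ℕ) (he : addVal C (algebraMap R C ϖ) = e) :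
    (IsLocalRing.maximalIdeal R).ramificationIdx' (IsLocalRing.maximalIdeal C) = e := by
  apply Ideal.ramificationIdx'_spec
  · rw [hϖ.maximalIdeal_eq, Ideal.map_span, Set.image_singleton, Ideal.span_singleton_le_iff_mem, mem_maximalIdeal_pow_iff, he]
  · rw [hϖ.maximalIdeal_eq, Ideal.map_span, Set.image_singleton, Ideal.span_singleton_le_iff_mem, mem_maximalIdeal_pow_iff, he]
    intro h
    have : e + 1 ≤ e := by exact_mod_cast h
    omega

theorem liesOver [IsLocalHom (algebraMap R C)] : (IsLocalRing.maximalIdeal C).LiesOver (IsLocalRing.maximalIdeal R) :=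
  inferInstance

/-- The fundamental inequality. -/
theorem le_finrank (K L : Type u) [Field K] [Field L] [Algebra K L] [Algebra R K] [IsFractionRing R K] [Algebra C L]
    [IsFractionRing C L] [Algebra R L] [IsScalarTower R C L] [IsScalarTower R K L] [Module.Finite R C] [FaithfulSMul R C]
    [IsLocalHom (algebraMap R C)] (ϖ : R) (hϖ : Irreducible ϖ) (e : ℕ) (he : addVal C (algebraMap R C ϖ) = e) :
    e ≤ Module.finrank K L := by
  have h1 := liesOver R C
  have h2 : NoZeroSMulDivisors R C := ⟨fun {c x} h => by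
    rw [Algebra.smul_def, mul_eq_zero] at h
    exact h.imp (fun h => (FaithfulSMul.algebraMap_injective R C) (by rw [h, map_zero])) id⟩
  rw [← ramificationIdx'_eq R C ϖ hϖ e he]
  exact Ideal.ramificationIdx_le_finrank (K := K) (L := L) (R := R) (S := C) (IsLocalRing.maximalIdeal C)

end

end K774.Val
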